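import Cfsg.Agent.SolvStruct.SymSixSection.Linear
import Cfsg.Agent.PGroups.SectionalRankFour

/-!
An extension of an elementary abelian self-centralising subgroup by a group containing the symmetric group of degree
six has an elementary abelian section of order thirty-two.
-/

set_option autoImplicit false
set_option linter.unusedSectionVars false
set_option linter.style.haveILetI false
set_option maxRecDepth 4000

namespace Cfsg.Lib.SymSixSection

open Subgroup Equiv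

theorem fix_conj_card {V : Type*} [CommGroup V] (c k : MulAut V) :
    Nat.card (fix (c * k * c⁻¹)) = Nat.card (fix k) := by
  refine (Nat.card_congr (Equiv.subtypeEquiv c.toEquiv fun a => ?_)).symm
  show k a = a ↔ (c * k * c⁻¹) (c a) = c a
  rw [← MulAut.mul_apply, inv_mul_cancel_right, MulAut.mul_apply, c.injective.eq_iff]

theorem Transv.conj {V : Type*} [CommGroup V] {t : MulAut V} {v : V} (T : Transv t v) (c : MulAut V) :
    Transv (c * t * c⁻¹) (c v) := by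
  obtain ⟨h1, h2, ⟨a, ha⟩, h4⟩ := T
  have e : ∀ b, (c * t * c⁻¹) (c b) * c b = c (t b * b) := fun b => by
    rw [map_mul, ← MulAut.mul_apply, inv_mul_cancel_right, MulAut.mul_apply]
  refine ⟨fun e' => h1 (c.injective (e'.trans (map_one c).symm)), fun b => ?_, ⟨c a, by rw [e, ha]⟩,
    (fix_conj_card c t).trans h4⟩
  obtain ⟨b', rfl⟩ := c.surjective b
  rw [e]
  rcases h2 b' with h | h
  · exact Or.inl (by rw [h, map_one])
  · exact Or.inr (by rw [h])

abbrev σp : Perm (Fin 6) := swap 0 1 * swap 1 2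
abbrev σr : Perm (Fin 6) := swap 3 4 * swap 4 5

/-- the configuration checked on permutations -/
structure Data (g h t c₂ c₃ : Perm (Fin 6)) : Prop where
  g3 : g ^ 3 = 1
  h3 : h ^ 3 = 1
  gh : g * h = h * g
  gh1 : g * h ≠ 1
  gh2 : g * h ^ 2 ≠ 1
  tt : t * t = 1
  tg : t * g = g * t
  th : t * h * t = h ^ 2
  c12 : t * (c₂ * t * c₂⁻¹) = c₂ * t * c₂⁻¹ * t
  c13 : t * (c₃ * t * c₃⁻¹) = c₃ * t * c₃⁻¹ * t
  c23 : c₂ * t * c₂⁻¹ * (c₃ * t * c₃⁻¹) = c₃ * t * c₃⁻¹ * (c₂ * t * c₂⁻¹)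
  indep : Function.Injective fun e : Fin 2 × Fin 2 × Fin 2 =>
    t ^ (e.1 : ℕ) * (c₂ * t * c₂⁻¹) ^ (e.2.1 : ℕ) * (c₃ * t * c₃⁻¹) ^ (e.2.2 : ℕ)
  gen12 : ∀ S : Subgroup (Perm (Fin 6)), (∀ k, t * k = k * t → k ∈ S) →
    (∀ k, c₂ * t * c₂⁻¹ * k = k * (c₂ * t * c₂⁻¹) → k ∈ S) → g ∈ S ∧ h ∈ S
  gen13 : ∀ S : Subgroup (Perm (Fin 6)), (∀ k, t * k = k * t → k ∈ S) →
    (∀ k, c₃ * t * c₃⁻¹ * k = k * (c₃ * t * c₃⁻¹) → k ∈ S) → g ∈ S ∧ h ∈ S
  gen23 : ∀ S : Subgroup (Perm (Fin 6)), (∀ k, c₂ * t * c₂⁻¹ * k = k * (c₂ * t * c₂⁻¹) → k ∈ S) →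
    (∀ k, c₃ * t * c₃⁻¹ * k = k * (c₃ * t * c₃⁻¹) → k ∈ S) → g ∈ S ∧ h ∈ S

theorem data_one : Data σp σr (swap 3 4) (swap 0 3 * swap 1 4) (swap 2 3 * swap 4 5) := by
  refine ⟨by decide, by decide, by decide, by decide, by decide, by decide, by decide, by decide, by decide,
    by decide, by decide, by decide, fun S h1 h2 => ⟨h1 _ (by decide), h2 _ (by decide)⟩, fun S h1 h2 => ⟨h1 _ (by decide), ?_⟩,
    fun S h2 h3 => ⟨?_, h2 _ (by decide)⟩⟩
  · rw [show σr = (swap 1 5 * swap 5 2) * swap 1 3 * ((swap 1 2 * swap 2 5) * swap 3 4) by decide]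
    exact mul_mem (mul_mem (h1 _ (by decide)) (h2 _ (by decide))) (h1 _ (by decide))
  · rw [show σp = swap 2 3 * (swap 0 1 * swap 1 3) * swap 2 3 by decide]
    exact mul_mem (mul_mem (h2 _ (by decide)) (h3 _ (by decide))) (h2 _ (by decide))

theorem data_two : Data (σp * σr) (σp * (σr * σr)) (swap 0 3 * swap 1 4 * swap 2 5) (swap 4 5) (swap 2 4) := by
  refine ⟨by decide, by decide, by decide, by decide, by decide, by decide, by decide, by decide, by decide,
    by decide, by decide, by decide, fun S h1 h2 => ⟨h1 _ (by decide), h2 _ (by decide)⟩, fun S h1 h2 => ⟨h1 _ (by decide), ?_⟩,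
    fun S h2 h3 => ⟨?_, h2 _ (by decide)⟩⟩
  · rw [show σp * (σr * σr) = swap 2 5 * (swap 0 1 * swap 2 3) * (swap 1 5 * swap 5 4 * swap 4 2) by decide]
    exact mul_mem (mul_mem (h1 _ (by decide)) (h2 _ (by decide))) (h1 _ (by decide))
  · rw [show σp * σr = swap 2 4 * (swap 0 1 * swap 2 3) * (swap 1 4 * swap 4 5 * swap 5 2) by decide]
    exact mul_mem (mul_mem (h2 _ (by decide)) (h3 _ (by decide))) (h2 _ (by decide))

theorem pow_bit {M : Type*} [Monoid M] (x : M) (e : Fin 2) : x ^ (e : ℕ) = if e = 0 then 1 else x := by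
  fin_cases e <;> simp

variable {Y Q : Type*} [Group Y] [Finite Y] [Group Q]

set_option maxHeartbeats 1600000 in
theorem no_section (V : Subgroup Y) [V.Normal] (hcomm : ∀ a ∈ V, ∀ b ∈ V, a * b = b * a)
    (hexp : ∀ a ∈ V, a * a = 1) (hC : centralizer (V : Set Y) ≤ V) (π : Y →* Q) (hπ : Function.Surjective π)
    (hker : π.ker = V) (j : Perm (Fin 6) →* Q) (hj : Function.Injective j) :
    ¬ Cfsg.SectionalPRankLE 2 4 Y := by
  classical
  intro hr
  letI : CommGroup V := { mul_comm := fun a b => Subtype.ext (hcomm a.1 a.2 b.1 b.2) }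
  have hexp' : ∀ a : V, a * a = 1 := fun a => Subtype.ext (hexp a.1 a.2)
  let ρY : Y →* MulAut V := MulAut.conjNormal
  have hVker : π.ker ≤ ρY.ker := by
    intro a ha
    rw [hker] at ha
    rw [MonoidHom.mem_ker]
    refine MulEquiv.ext fun b => Subtype.ext ?_
    show a * (b : Y) * a⁻¹ = b
    rw [hcomm a ha b b.2, mul_inv_cancel_right]
  let ρQ : Q →* MulAut V := π.liftOfSurjective hπ ⟨ρY, hVker⟩
  have hρQ : ∀ y, ρQ (π y) = ρY y := fun y =>
    MonoidHom.liftOfRightInverse_comp_apply π _ (Function.rightInverse_surjInv hπ) ⟨ρY, hVker⟩ y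
  let ρ : Perm (Fin 6) →* MulAut V := ρQ.comp j
  have act : ∀ (y : Y) (σ : Perm (Fin 6)), π y = j σ → ∀ a : V, y * (a : Y) * y⁻¹ = ((ρ σ a : V) : Y) := by
    intro y σ e a
    show _ = ((ρQ (j σ) a : V) : Y)
    rw [← e, hρQ]
    rfl
  have hρ : Function.Injective ρ := by
    rw [injective_iff_map_eq_one]
    intro σ hσ
    obtain ⟨y, hy⟩ := hπ (j σ)
    have hyV : y ∈ V := hC fun b hb => by
      have := act y σ hy ⟨b, hb⟩
      rw [hσ] at this
      exact (mul_inv_eq_iff_eq_mul.1 this).symm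
    rw [← hker, MonoidHom.mem_ker, hy] at hyV
    exact hj (hyV.trans (map_one j).symm)
  have hne : ∀ σ : Perm (Fin 6), σ ≠ 1 → ρ σ ≠ 1 := fun σ h e => h (hρ (e.trans (map_one ρ).symm))
  have h3 : ∀ σ : Perm (Fin 6), σ ^ 3 = 1 → ρ σ ^ 3 = 1 := fun σ h => by rw [← map_pow, h, map_one]
  -- order of the normal subgroup
  have hle : Nat.card V ≤ 16 := by
    have := Cfsg.Lib.SectionalRank.sectional_bound hr (N := ⊥) (U := V) (by rw [normalizer_eq_top]; exact le_top)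
      (fun u hu => by rw [hexp u hu]; exact one_mem _)
    rwa [relIndex_bot_left] at this
  obtain ⟨n, hn⟩ : ∃ n, Nat.card V = 2 ^ n := by
    haveI : Fact (Nat.Prime 2) := ⟨Nat.prime_two⟩
    exact IsPGroup.iff_card.1 fun a => ⟨1, by rw [pow_one, pow_two]; exact hexp' a⟩
  have hn4 : n ≤ 4 := by
    by_contra h5
    have := Nat.pow_le_pow_right (n := 2) two_pos (show 5 ≤ n by omega)
    omega
  have hdiv : ∀ σ : Perm (Fin 6), σ ^ 3 = 1 → σ ≠ 1 →
      ∃ i, i < n ∧ Nat.card (fix (ρ σ)) = 2 ^ i ∧ 2 ^ n % 3 = 2 ^ i % 3 := by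
    intro σ h1 h2
    have hd : Nat.card (fix (ρ σ)) ∣ 2 ^ n := hn ▸ Subgroup.card_subgroup_dvd_card _
    obtain ⟨i, hi, hi'⟩ := (Nat.dvd_prime_pow Nat.prime_two).1 hd
    refine ⟨i, lt_of_le_of_ne hi fun e => fix_ne_top (hne σ h2) (eq_top_of_card_eq _ ?_), hi', ?_⟩
    · rw [hi', e, hn]
    · have := card_fix_modEq (h3 σ h1)
      rw [hn, hi'] at this
      exact this
  have hcomm9 : Commute (ρ σp) (ρ σr) := by
    show ρ σp * ρ σr = ρ σr * ρ σp
    rw [← map_mul, ← map_mul, show σp * σr = σr * σp by decide]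
  let four : Finset (Perm (Fin 6)) := {σp, σr, σp * σr, σp * σr ^ 2}
  have hfour : ∀ σ ∈ four, σ ^ 3 = 1 ∧ σ ≠ 1 ∧ σp * σ = σ * σp ∧ σr * σ = σ * σr := by decide
  obtain ⟨v₀, hv₀⟩ : ∃ v : V, v ≠ 1 ∧ ∃ σ ∈ four, ρ σ v = v := by
    by_contra hall
    push Not at hall
    let T : Set V := {v | v ≠ 1}
    have hT : ∀ σ, ∀ x ∈ T, ρ σ x ∈ T := fun σ x hx e => hx ((ρ σ).injective (e.trans (map_one _).symm))
    have hTc : T.ncard = 2 ^ n - 1 := by
      have : T = ({1} : Set V)ᶜ := rfl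
      have h := Set.ncard_add_ncard_compl ({1} : Set V)
      rw [Set.ncard_singleton, hn] at h
      rw [this]; omega
    have hn1 : 1 ≤ n := by
      by_contra h0
      obtain ⟨i, hi, -⟩ := hdiv σp (by decide) (by decide)
      omega
    obtain ⟨v, hv, e⟩ := exists_fixed hexp' (h3 σp (by decide)) (h3 σr (by decide)) hcomm9 (hT σp) (hT σr)
      (Set.nonempty_of_ncard_ne_zero (by rw [hTc]; have := Nat.one_lt_two_pow (show n ≠ 0 by omega); omega))
      (by rw [hTc]; have := hn ▸ hle; omega) (by rw [hTc]; interval_cases n <;> norm_num)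
    rcases e with e | e | e | e
    · exact hall v hv σp (by decide) e
    · exact hall v hv σr (by decide) e
    · exact hall v hv (σp * σr) (by decide) (by rw [map_mul]; exact e)
    · exact hall v hv (σp * σr ^ 2) (by decide) (by rw [map_mul, map_pow]; exact e)
  have hn16 : n = 4 := by
    by_contra hne4
    have hsmall : ∀ σ ∈ four, Nat.card (fix (ρ σ)) ≤ 2 ∧ (n ≤ 2 → Nat.card (fix (ρ σ)) = 1) := by
      intro σ hσ
      obtain ⟨i, hi, hi', hm⟩ := hdiv σ (hfour σ hσ).1 (hfour σ hσ).2.1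
      have : n ≤ 3 := by omega
      rw [hi']
      interval_cases n <;> interval_cases i <;> simp at hm ⊢
    obtain ⟨hv1, σ₀, hσ₀, hfix⟩ := hv₀
    have h8 : n = 3 := by
      by_contra h
      have := (hsmall σ₀ hσ₀).2 (by omega)
      rw [Subgroup.card_eq_one] at this
      have hm : v₀ ∈ fix (ρ σ₀) := hfix
      rw [this, Subgroup.mem_bot] at hm
      exact hv1 hm
    -- the fixed points cover too little
    let T : Set V := {v | v ≠ 1 ∧ ∀ σ ∈ four, ρ σ v ≠ v}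
    have hT : ∀ τ, (∀ σ ∈ four, τ * σ = σ * τ) → ∀ x ∈ T, ρ τ x ∈ T := by
      intro τ hτ x hx
      refine ⟨fun e => hx.1 ((ρ τ).injective (e.trans (map_one _).symm)), fun σ hσ e => hx.2 σ hσ ((ρ τ).injective ?_)⟩
      rw [← MulAut.mul_apply, ← map_mul, hτ σ hσ, map_mul, MulAut.mul_apply]
      exact e
    have hcover : Tᶜ ⊆ ({1} : Set V) ∪ ⋃ σ ∈ four, ((fix (ρ σ) : Set V) \ {1}) := by
      intro x hx
      by_cases hx1 : x = 1
      · exact Or.inl hx1
      · simp only [T, Set.mem_compl_iff, Set.mem_setOf_eq, not_and, not_forall, not_not] at hx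
        obtain ⟨σ, hσ, e⟩ := hx hx1
        exact Or.inr (Set.mem_biUnion hσ ⟨e, hx1⟩)
    have hcb : Tᶜ.ncard ≤ 5 := by
      refine (Set.ncard_le_ncard hcover).trans ((Set.ncard_union_le _ _).trans ?_)
      rw [Set.ncard_singleton]
      have h4 : (⋃ σ ∈ four, ((fix (ρ σ) : Set V) \ {1})).ncard ≤ ∑ σ ∈ four, ((fix (ρ σ) : Set V) \ {1}).ncard :=
        Finset.set_ncard_biUnion_le _ _
      have h5 : ∑ σ ∈ four, ((fix (ρ σ) : Set V) \ {1}).ncard ≤ four.card • 1 := by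
        refine Finset.sum_le_card_nsmul _ _ 1 fun σ hσ => ?_
        rw [Set.ncard_sdiff_singleton_of_mem (Subgroup.one_mem _)]
        have := (hsmall σ hσ).1
        rw [← SetLike.coe_sort_coe, Nat.card_coe_set_eq] at this
        omega
      have h6 : four.card = 4 := by decide
      simp only [h6, smul_eq_mul, mul_one] at h5
      omega
    have hadd := Set.ncard_add_ncard_compl T
    rw [hn, h8] at hadd
    have hTne : T.Nonempty := Set.nonempty_of_ncard_ne_zero (by omega)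
    obtain ⟨v, hv, e⟩ := exists_fixed hexp' (h3 σp (by decide)) (h3 σr (by decide)) hcomm9
      (hT σp fun σ hσ => (hfour σ hσ).2.2.1) (hT σr fun σ hσ => (hfour σ hσ).2.2.2) hTne (by omega) (by omega)
    rcases e with e | e | e | e
    · exact hv.2 σp (by decide) e
    · exact hv.2 σr (by decide) e
    · exact hv.2 (σp * σr) (by decide) (by rw [map_mul]; exact e)
    · exact hv.2 (σp * σr ^ 2) (by decide) (by rw [map_mul, map_pow]; exact e)
  subst hn16
  have hV : Nat.card V = 16 := hn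
  have hfour4 : ∀ σ : Perm (Fin 6), σ ^ 3 = 1 → σ ≠ 1 → (∃ v, v ≠ 1 ∧ ρ σ v = v) →
      Nat.card (fix (ρ σ)) = 4 := by
    intro σ h1 h2 ⟨v, hv, e⟩
    obtain ⟨i, hi, hi', hm⟩ := hdiv σ h1 h2
    have : i ≠ 0 := fun h0 => by
      rw [h0, pow_zero, Subgroup.card_eq_one] at hi'
      have hm' : v ∈ fix (ρ σ) := e
      rw [hi', Subgroup.mem_bot] at hm'
      exact hv hm'
    rw [hi']
    interval_cases i <;> simp at hm this ⊢
  have hconj : ∀ c σ : Perm (Fin 6), Nat.card (fix (ρ (c * σ * c⁻¹))) = Nat.card (fix (ρ σ)) := fun c σ => by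
    rw [map_mul, map_mul, map_inv, fix_conj_card]
  obtain ⟨g, h, t, c₂, c₃, D, hcg, hch⟩ : ∃ g h t c₂ c₃, Data g h t c₂ c₃ ∧
      Nat.card (fix (ρ g)) = 4 ∧ Nat.card (fix (ρ h)) = 4 := by
    obtain ⟨hv1, σ, hσ, e⟩ := hv₀
    have h4 := hfour4 σ (hfour σ hσ).1 (hfour σ hσ).2.1 ⟨v₀, hv1, e⟩
    simp only [four, Finset.mem_insert, Finset.mem_singleton] at hσ
    rcases hσ with rfl | rfl | rfl | rfl
    · refine ⟨_, _, _, _, _, data_one, h4, ?_⟩
      rw [show σr = (swap 0 3 * swap 1 4 * swap 2 5) * σp * (swap 0 3 * swap 1 4 * swap 2 5)⁻¹ by decide, hconj]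
      exact h4
    · refine ⟨_, _, _, _, _, data_one, ?_, h4⟩
      rw [show σp = (swap 0 3 * swap 1 4 * swap 2 5) * σr * (swap 0 3 * swap 1 4 * swap 2 5)⁻¹ by decide, hconj]
      exact h4
    · refine ⟨_, _, _, _, _, data_two, h4, ?_⟩
      rw [show σp * (σr * σr) = swap 3 4 * (σp * σr) * (swap 3 4)⁻¹ by decide, hconj]
      exact h4
    · rw [pow_two] at h4
      refine ⟨_, _, _, _, _, data_two, ?_, h4⟩
      rw [show σp * σr = swap 3 4 * (σp * (σr * σr)) * (swap 3 4)⁻¹ by decide, hconj]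
      exact h4
  have hgh : Commute (ρ g) (ρ h) := (show Commute g h from D.gh).map ρ
  have hinf := fix_inf_bot hexp' hV (h3 g D.g3) (h3 h D.h3) hgh
    ⟨by rw [← map_mul]; exact hne _ D.gh1, by rw [← map_pow, ← map_mul]; exact hne _ D.gh2⟩ hcg hch
  have F : Frame (ρ g) (ρ h) (ρ t) := ⟨h3 g D.g3, h3 h D.h3, hgh.eq, by rw [← map_mul, D.tt, map_one],
    by rw [← map_mul, D.tg, map_mul], by rw [← map_pow, ← map_mul, ← map_mul, D.th], hcg, hch, hinf⟩
  obtain ⟨v, T, hgv, huniq⟩ := Frame.transv hexp' hV F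
  -- squares of lifts
  obtain ⟨gl₀, hgl₀⟩ := hπ (j g)
  set gl := gl₀ ^ 16
  have hgl : π gl = j g := by
    rw [map_pow, hgl₀, ← map_pow, show (16 : ℕ) = 3 * 5 + 1 from rfl, pow_succ, pow_mul, D.g3, one_pow, one_mul]
  have hgl3 : gl ^ 3 = 1 := by
    rw [← pow_mul, show 16 * 3 = 3 * 2 * 8 from rfl, pow_mul, pow_mul, pow_two (gl₀ ^ 3), hexp _ ?_, one_pow]
    rw [← hker, MonoidHom.mem_ker, map_pow, hgl₀, ← map_pow, D.g3, map_one]
  obtain ⟨tl, htl⟩ := hπ (j t)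
  have hmemV : ∀ y, π y = 1 → y ∈ V := fun y e => by rw [← hker]; exact e
  let a : V := ⟨tl⁻¹ * (gl * tl * gl⁻¹), hmemV _ (by
    rw [map_mul, map_mul, map_mul, map_inv, map_inv, hgl, htl, ← map_mul j g, ← D.tg, map_mul]; group)⟩
  let G' : V → V := fun b => ρ g b
  have hG : ∀ b : V, ((G' b : V) : Y) = gl * (b : Y) * gl⁻¹ := fun b => (act gl g hgl b).symm
  have hnorm : a * G' a * G' (G' a) = 1 := by
    apply Subtype.ext
    have e3 : gl * gl * gl = 1 := by rw [← hgl3, pow_succ, pow_two]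
    show (a : Y) * (G' a : V) * (G' (G' a) : V) = 1
    rw [hG (G' a), hG a]
    calc _ = tl⁻¹ * ((gl * gl * gl) * tl * (gl * gl * gl)⁻¹) := by simp only [a]; group
      _ = 1 := by rw [e3]; group
  set x := tl * ((G' a : V) : Y) with hx
  have hxg : gl * x * gl⁻¹ = x := by
    have e : gl * x * gl⁻¹ = tl * ((a * G' (G' a) : V) : Y) := by
      rw [hx, Subgroup.coe_mul, hG (G' a), hG a]
      simp only [a]
      group
    rw [e, hx]
    congr 2
    exact eq_of_mul_one hexp' (a := G' a) (by rw [← mul_assoc, mul_comm (G' a) a]; exact hnorm)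
  have hπx : π x = j t := by
    rw [map_mul, htl, show π ((G' a : V) : Y) = 1 from hker ▸ (G' a).2, mul_one]
  have hxx : ∀ (hm : x * x ∈ V), (⟨x * x, hm⟩ : V) = 1 ∨ (⟨x * x, hm⟩ : V) = v := fun hm => by
    refine huniq _ ?_ ?_
    · apply Subtype.ext
      rw [← act gl g hgl]
      calc gl * (x * x) * gl⁻¹ = (gl * x * gl⁻¹) * (gl * x * gl⁻¹) := by group
        _ = _ := by rw [hxg]
    · apply Subtype.ext
      rw [← act x t hπx]
      show x * (x * x) * x⁻¹ = x * x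
      group
  have htinv : t⁻¹ = t := inv_eq_of_mul_eq_one_left D.tt
  have hsq : ∀ (c : Perm (Fin 6)) (y : Y), π y = j (c * t * c⁻¹) →
      y * y = 1 ∨ y * y = ((ρ c v : V) : Y) := by
    intro c y hy
    obtain ⟨cl, hcl⟩ := hπ (j c)
    set y' := cl⁻¹ * y * cl
    have hy' : π y' = j t := by
      rw [map_mul, map_mul, map_inv, hy, hcl, map_mul, map_mul, map_inv]; group
    let b : V := ⟨x⁻¹ * y', hmemV _ (by rw [map_mul, map_inv, hπx, hy', inv_mul_cancel])⟩
    have hm : x * x ∈ V := hmemV _ (by rw [map_mul, hπx, ← map_mul, D.tt, map_one])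
    let d : V := ⟨x * x, hm⟩ * (ρ t b * b)
    have e : y' * y' = (d : Y) := by
      show _ = x * x * (((ρ t b : V) : Y) * (b : Y))
      rw [← act x⁻¹ t (by rw [map_inv, hπx, ← map_inv, htinv]) b]
      simp only [b]
      group
    have hd : d = 1 ∨ d = v := by
      rcases hxx hm with h1 | h1 <;> rcases T.2.1 b with h2 | h2 <;> simp only [d, h1, h2, mul_one, one_mul, hexp'] <;> tauto
    have e2 : y * y = cl * (d : Y) * cl⁻¹ := by rw [← e]; simp only [y']; group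
    rcases hd with hd | hd <;> rw [hd] at e2
    · left; rw [e2, OneMemClass.coe_one]; group
    · right; rw [e2, act cl c hcl]
  -- the three transvections
  let τ₂ := c₂ * t * c₂⁻¹
  let τ₃ := c₃ * t * c₃⁻¹
  have T₂ : Transv (ρ τ₂) (ρ c₂ v) := by rw [map_mul, map_mul, map_inv]; exact T.conj _
  have T₃ : Transv (ρ τ₃) (ρ c₃ v) := by rw [map_mul, map_mul, map_inv]; exact T.conj _
  have sq1 : ρ t * ρ t = 1 := by rw [← map_mul, D.tt, map_one]
  have sqc : ∀ c : Perm (Fin 6), ρ (c * t * c⁻¹) * ρ (c * t * c⁻¹) = 1 := fun c => by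
    rw [← map_mul, show c * t * c⁻¹ * (c * t * c⁻¹) = c * (t * t) * c⁻¹ by group, D.tt, mul_one, mul_inv_cancel, map_one]
  have k12 : Commute (ρ t) (ρ τ₂) := (show Commute t τ₂ from D.c12).map ρ
  have k13 : Commute (ρ t) (ρ τ₃) := (show Commute t τ₃ from D.c13).map ρ
  have k23 : Commute (ρ τ₂) (ρ τ₃) := (show Commute τ₂ τ₃ from D.c23).map ρ
  have gen : ∀ (a b : Perm (Fin 6)), (∀ S : Subgroup (Perm (Fin 6)), (∀ k, a * k = k * a → k ∈ S) →
      (∀ k, b * k = k * b → k ∈ S) → g ∈ S ∧ h ∈ S) → ∀ S : Subgroup (MulAut V),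
      (∀ k, Commute (ρ a) k → k ∈ S) → (∀ k, Commute (ρ b) k → k ∈ S) → ρ g ∈ S ∧ ρ h ∈ S :=
    fun a b H S h1 h2 => H (S.comap ρ) (fun k hk => h1 _ ((show Commute a k from hk).map ρ))
      fun k hk => h2 _ ((show Commute b k from hk).map ρ)
  obtain ⟨n12, p12⟩ := Transv.pair hexp' hV (h3 g D.g3) (h3 h D.h3) hcg hch hgh hinf T T₂ sq1 (sqc c₂) k12
    (gen _ _ D.gen12)
  obtain ⟨n13, p13⟩ := Transv.pair hexp' hV (h3 g D.g3) (h3 h D.h3) hcg hch hgh hinf T T₃ sq1 (sqc c₃) k13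
    (gen _ _ D.gen13)
  obtain ⟨n23, p23⟩ := Transv.pair hexp' hV (h3 g D.g3) (h3 h D.h3) hcg hch hgh hinf T₂ T₃ (sqc c₂) (sqc c₃) k23
    (gen _ _ D.gen23)
  let W₀ : Subgroup V := fix (ρ t) ⊓ fix (ρ τ₂) ⊓ fix (ρ τ₃)
  have m1 : v ∈ W₀ := ⟨⟨T.fix_self hexp' sq1, (T.fix_of_commute hexp' k12).1⟩, (T.fix_of_commute hexp' k13).1⟩
  have m2 : ρ c₂ v ∈ W₀ := ⟨⟨(T₂.fix_of_commute hexp' k12.symm).1, T₂.fix_self hexp' (sqc c₂)⟩,
    (T₂.fix_of_commute hexp' k23).1⟩
  have m3 : ρ c₃ v ∈ W₀ := ⟨⟨(T₃.fix_of_commute hexp' k13.symm).1, (T₃.fix_of_commute hexp' k23.symm).1⟩,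
    T₃.fix_self hexp' (sqc c₃)⟩
  have inW : ∀ {a b : V}, a ∈ W₀ → b ∈ W₀ → ∀ {z : V}, z ∈ ({1, a, b, a * b} : Set V) → z ∈ W₀ := by
    intro a b ha hb z hz
    rcases hz with rfl | rfl | rfl | rfl
    exacts [one_mem _, ha, hb, mul_mem ha hb]
  have hWcard : Nat.card W₀ ≤ 4 := by
    have hsub : (W₀ : Set V) ⊆ ↑({1, v, ρ c₂ v, v * ρ c₂ v} : Finset V) := fun z hz => by
      simpa using p12 z hz.1.1 hz.1.2
    have := Set.ncard_le_ncard hsub
    rw [Set.ncard_coe_finset, ← Nat.card_coe_set_eq] at this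
    exact this.trans Finset.card_le_four
  set W : Subgroup Y := W₀.map V.subtype
  have memW : ∀ {a : V}, a ∈ W₀ → (a : Y) ∈ W := fun {a} ha => ⟨a, ha, rfl⟩
  -- lifts
  obtain ⟨y₂, hy₂⟩ := hπ (j τ₂)
  obtain ⟨y₃, hy₃⟩ := hπ (j τ₃)
  let gens : Set Y := (V : Set Y) ∪ {tl, y₂, y₃}
  set U := closure gens
  have hWU : ∀ w ∈ W, ∀ u ∈ U, u * w = w * u := by
    rintro _ ⟨w, hw, rfl⟩ u hu
    induction hu using closure_induction with
    | mem s hs =>
      rcases hs with hs | rfl | rfl | rfl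
      · exact hcomm s hs _ w.2
      · refine mul_inv_eq_iff_eq_mul.1 ?_
        exact (act _ t htl w).trans (congrArg Subtype.val hw.1.1)
      · refine mul_inv_eq_iff_eq_mul.1 ?_
        exact (act _ τ₂ hy₂ w).trans (congrArg Subtype.val hw.1.2)
      · refine mul_inv_eq_iff_eq_mul.1 ?_
        exact (act _ τ₃ hy₃ w).trans (congrArg Subtype.val hw.2)
    | one => simp
    | mul a b _ _ ha hb => exact (Commute.mul_left (ha : Commute a _) hb).eq
    | inv a _ ha => exact (Commute.inv_left (ha : Commute a _)).eq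
  have sqlift : ∀ (c : Perm (Fin 6)), ρ c v ∈ W₀ → ∀ y, π y = j (c * t * c⁻¹) → y * y ∈ W := by
    intro c hc y hy
    rcases hsq c y hy with e | e <;> rw [e]
    · exact one_mem _
    · exact memW hc
  have hvone : ρ (1 : Perm (Fin 6)) v = v := by rw [map_one]; rfl
  have ht1 : (1 : Perm (Fin 6)) * t * 1⁻¹ = t := by group
  -- commutators of the generators
  have hmixed : ∀ (σ : Perm (Fin 6)) (y : Y) (u : V), π y = j σ → Transv (ρ σ) u → u ∈ W₀ →
      ∀ b ∈ V, y * b * y⁻¹ * b⁻¹ ∈ W ∧ b * y * b⁻¹ * y⁻¹ ∈ W := by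
    intro σ y u hy Tu hu b hb
    have e : y * b * y⁻¹ * b⁻¹ = ((ρ σ ⟨b, hb⟩ * ⟨b, hb⟩ : V) : Y) := by
      rw [Subgroup.coe_mul, ← act y σ hy]
      show _ = y * b * y⁻¹ * b
      rw [inv_eq_of_mul_eq_one_left (hexp b hb)]
    have h1 : y * b * y⁻¹ * b⁻¹ ∈ W := by
      rw [e]
      rcases Tu.2.1 ⟨b, hb⟩ with h | h <;> rw [h]
      · exact one_mem _
      · exact memW hu
    exact ⟨h1, by simpa [mul_assoc] using inv_mem h1⟩
  have hpair : ∀ (a b : Perm (Fin 6)) (ya yb : Y), π ya = j (a * t * a⁻¹) → π yb = j (b * t * b⁻¹) →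
      Commute (ρ (a * t * a⁻¹)) (ρ (b * t * b⁻¹)) →
      ∀ hm : yb * ya * yb⁻¹ * ya⁻¹ ∈ V, ρ (a * t * a⁻¹) ⟨_, hm⟩ = ⟨_, hm⟩ := by
    intro a b ya yb ha hb hab hm
    have Ta : Transv (ρ (a * t * a⁻¹)) (ρ a v) := by rw [map_mul, map_mul, map_inv]; exact T.conj _
    have hfix : yb * (ya * ya) * yb⁻¹ = ya * ya := by
      rcases hsq a ya ha with e | e <;> rw [e]
      · group
      · rw [act yb _ hb]
        exact congrArg Subtype.val (Ta.fix_of_commute hexp' hab).1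
    set u : V := ⟨_, hm⟩
    have e1 : ((u * ρ (a * t * a⁻¹) u : V) : Y) * (ya * ya) = ya * ya := by
      rw [Subgroup.coe_mul, ← act ya _ ha]
      calc _ = yb * (ya * ya) * yb⁻¹ := by simp only [u]; group
        _ = _ := hfix
    exact eq_of_mul_one hexp' (Subtype.ext (mul_eq_right.1 e1))
  have hcommW : ∀ (a b : Perm (Fin 6)) (ya yb : Y), π ya = j (a * t * a⁻¹) → π yb = j (b * t * b⁻¹) →
      (a * t * a⁻¹) * (b * t * b⁻¹) = (b * t * b⁻¹) * (a * t * a⁻¹) →
      (∀ z, ρ (a * t * a⁻¹) z = z → ρ (b * t * b⁻¹) z = z → z ∈ W₀) →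
      yb * ya * yb⁻¹ * ya⁻¹ ∈ W ∧ ya * yb * ya⁻¹ * yb⁻¹ ∈ W := by
    intro a b ya yb ha hb hab hz
    have hm1 : yb * ya * yb⁻¹ * ya⁻¹ ∈ V := hmemV _ (by
      rw [map_mul, map_mul, map_mul, map_inv, map_inv, ha, hb, ← map_mul j (b * t * b⁻¹), ← hab, map_mul]; group)
    have hm2 : ya * yb * ya⁻¹ * yb⁻¹ ∈ V := by simpa [mul_assoc] using inv_mem hm1
    have f1 := hpair a b ya yb ha hb ((show Commute _ _ from hab).map ρ) hm1
    have f2 := hpair b a yb ya hb ha ((show Commute _ _ from hab.symm).map ρ) hm2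
    have heq : (⟨_, hm2⟩ : V) = ⟨_, hm1⟩ := by
      rw [← inv_self' hexp' ⟨_, hm1⟩]
      exact Subtype.ext (by show _ = (_ : Y)⁻¹; group)
    rw [heq] at f2
    have h1 : yb * ya * yb⁻¹ * ya⁻¹ ∈ W := memW (hz _ f1 f2)
    exact ⟨h1, by simpa [mul_assoc] using inv_mem h1⟩
  have htl' : π tl = j (1 * t * 1⁻¹) := by rw [ht1]; exact htl
  have q12 := hcommW 1 c₂ tl y₂ htl' hy₂ (by rw [ht1]; exact D.c12)
    (fun z h1 h2 => inW m1 m2 (p12 z (by rwa [ht1] at h1) h2))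
  have q13 := hcommW 1 c₃ tl y₃ htl' hy₃ (by rw [ht1]; exact D.c13)
    (fun z h1 h2 => inW m1 m3 (p13 z (by rwa [ht1] at h1) h2))
  have q23 := hcommW c₂ c₃ y₂ y₃ hy₂ hy₃ D.c23 (fun z h1 h2 => inW m2 m3 (p23 z h1 h2))
  have hgg : ∀ s ∈ gens, ∀ r ∈ gens, s * r * s⁻¹ * r⁻¹ ∈ W := by
    intro s hs r hr'
    rcases hs with hs | rfl | rfl | rfl <;> rcases hr' with hr' | rfl | rfl | rfl
    · rw [hcomm s hs r hr']; simp
    · exact (hmixed t _ v htl T m1 s hs).2
    · exact (hmixed τ₂ _ _ hy₂ T₂ m2 s hs).2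
    · exact (hmixed τ₃ _ _ hy₃ T₃ m3 s hs).2
    · exact (hmixed t _ v htl T m1 r hr').1
    · simp
    · exact q12.2
    · exact q13.2
    · exact (hmixed τ₂ _ _ hy₂ T₂ m2 r hr').1
    · exact q12.1
    · simp
    · exact q23.2
    · exact (hmixed τ₃ _ _ hy₃ T₃ m3 r hr').1
    · exact q13.1
    · exact q23.1
    · simp
  have hUg : ∀ u ∈ U, ∀ r ∈ gens, u * r * u⁻¹ * r⁻¹ ∈ W := by
    intro u hu
    induction hu using closure_induction with
    | mem s hs => exact hgg s hs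
    | one => intro r _; simp
    | mul a b ha hb iha ihb =>
      intro r hr'
      have e : a * b * r * (a * b)⁻¹ * r⁻¹ = a * (b * r * b⁻¹ * r⁻¹) * a⁻¹ * (a * r * a⁻¹ * r⁻¹) := by group
      rw [e, hWU _ (ihb r hr') a ha, mul_inv_cancel_right]
      exact mul_mem (ihb r hr') (iha r hr')
    | inv a ha iha =>
      intro r hr'
      have e : a⁻¹ * r * a⁻¹⁻¹ * r⁻¹ = a⁻¹ * (a * r * a⁻¹ * r⁻¹)⁻¹ * a := by group
      rw [e, hWU _ (inv_mem (iha r hr')) _ (inv_mem ha), inv_mul_cancel_right]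
      exact inv_mem (iha r hr')
  have hUU : ∀ u ∈ U, ∀ w ∈ U, u * w * u⁻¹ * w⁻¹ ∈ W := by
    intro u hu w hw
    induction hw using closure_induction with
    | mem s hs => exact hUg u hu s hs
    | one => simp
    | mul a b ha hb iha ihb =>
      have e : u * (a * b) * u⁻¹ * (a * b)⁻¹ = u * a * u⁻¹ * a⁻¹ * (a * (u * b * u⁻¹ * b⁻¹) * a⁻¹) := by group
      rw [e, hWU _ ihb a ha, mul_inv_cancel_right]
      exact mul_mem iha ihb
    | inv a ha iha =>
      have e : u * a⁻¹ * u⁻¹ * a⁻¹⁻¹ = a⁻¹ * (u * a * u⁻¹ * a⁻¹)⁻¹ * a := by group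
      rw [e, hWU _ (inv_mem iha) _ (inv_mem ha), inv_mul_cancel_right]
      exact inv_mem iha
  have hsqU : ∀ u ∈ U, u * u ∈ W := by
    intro u hu
    induction hu using closure_induction with
    | mem s hs =>
      rcases hs with hs | rfl | rfl | rfl
      · rw [hexp s hs]; exact one_mem _
      · exact sqlift 1 (by rw [hvone]; exact m1) _ htl'
      · exact sqlift c₂ m2 _ hy₂
      · exact sqlift c₃ m3 _ hy₃
    | one => simp
    | mul a b ha hb iha ihb =>
      have e : a * b * (a * b) = a * a * (a⁻¹ * b * a⁻¹⁻¹ * b⁻¹) * (b * b) := by group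
      rw [e]
      exact mul_mem (mul_mem iha (hUU _ (inv_mem ha) b hb)) ihb
    | inv a ha iha => rw [← mul_inv_rev]; exact inv_mem iha
  have hWle : W ≤ U := by
    rintro _ ⟨w, -, rfl⟩
    exact subset_closure (Or.inl w.2)
  have hn' : U ≤ normalizer (W : Set Y) := fun u hu => by
    rw [mem_normalizer_iff]
    intro w
    constructor
    · intro hw; rw [hWU w hw u hu, mul_inv_cancel_right]; exact hw
    · intro hw
      have := hWU _ hw u hu
      have e : w = u * w * u⁻¹ := by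
        rw [mul_left_cancel (a := u) (b := u * w * u⁻¹) (c := w) (by rw [this]; group)]
      rwa [e]
  have hb := Cfsg.Lib.SectionalRank.sectional_bound hr hn' hsqU
  have hbig : 128 ≤ Nat.card U := by
    have u1 : tl ∈ U := Subgroup.subset_closure (Or.inr (Or.inl rfl))
    have u2 : y₂ ∈ U := Subgroup.subset_closure (Or.inr (Or.inr (Or.inl rfl)))
    have u3 : y₃ ∈ U := Subgroup.subset_closure (Or.inr (Or.inr (Or.inr rfl)))
    let m : V × (Fin 2 × Fin 2 × Fin 2) → U := fun e =>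
      ⟨(e.1 : Y) * (tl ^ (e.2.1 : ℕ) * y₂ ^ (e.2.2.1 : ℕ) * y₃ ^ (e.2.2.2 : ℕ)),
        mul_mem (Subgroup.subset_closure (Or.inl e.1.2))
          (mul_mem (mul_mem (pow_mem u1 _) (pow_mem u2 _)) (pow_mem u3 _))⟩
    have hm : Function.Injective m := by
      rintro ⟨b, e⟩ ⟨b', e'⟩ heq
      have h1 := congrArg Subtype.val heq
      have h2 := congrArg π h1
      have key : ∀ (b : V) (e : Fin 2 × Fin 2 × Fin 2),
          π ((b : Y) * (tl ^ (e.1 : ℕ) * y₂ ^ (e.2.1 : ℕ) * y₃ ^ (e.2.2 : ℕ))) =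
          j (t ^ (e.1 : ℕ) * τ₂ ^ (e.2.1 : ℕ) * τ₃ ^ (e.2.2 : ℕ)) := fun b e => by
        rw [map_mul, map_mul, map_mul, map_pow, map_pow, map_pow, show π (b : Y) = 1 from hker ▸ b.2, htl, hy₂, hy₃,
          one_mul, ← map_pow j, ← map_pow j, ← map_pow j, ← map_mul j, ← map_mul j]
      rw [key, key] at h2
      obtain rfl := D.indep (hj h2)
      exact Prod.ext (Subtype.ext (mul_right_cancel h1)) rfl
    have := Nat.card_le_card_of_injective m hm
    simpa [hV] using this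
  have hWc : Nat.card W ≤ 4 := by
    rw [card_map_of_injective V.subtype_injective]; exact hWcard
  have := Nat.card_congr (Subgroup.subgroupOfEquivOfLe hWle).toEquiv
  have hmul := (W.subgroupOf U).card_mul_index
  rw [this] at hmul
  change W.relIndex U ≤ 2 ^ 4 at hb
  change Nat.card W * W.relIndex U = Nat.card U at hmul
  nlinarith

end Cfsg.Lib.SymSixSection
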