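import Cfsg.Agent.SolvStruct.AltEight.Six
import Cfsg.Agent.SolvStruct.ThreeCycleEight
import Cfsg.Agent.Components.Cores

/-!
Non-solvable groups of even permutations of eight points with a non-trivial normal subgroup of odd prime-power order.
-/

set_option autoImplicit false
set_option linter.unusedSectionVars false
set_option linter.style.haveILetI false

namespace Cfsg.Lib.SymSixSection

open Subgroup Equiv Equiv.Perm

theorem mem_zpowers_of_same_support {α : Type*} [Fintype α] [DecidableEq α] {σ τ : Perm α}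
    (hσ : σ.IsThreeCycle) (hτ : τ.IsThreeCycle) (h : τ.support = σ.support) : τ ∈ Subgroup.zpowers σ := by
  obtain ⟨x, hx⟩ : ∃ x, x ∈ σ.support := Finset.card_pos.1 (by rw [hσ.card_support]; norm_num)
  have hc := Cfsg.Lib.SolvStruct.ThreeCycleEight.commute_of_support_eq hσ hτ h
  have hτx : τ x ∈ σ.support := h ▸ Perm.apply_mem_support.2 (h.symm ▸ hx)
  obtain ⟨i, hi⟩ := hσ.isCycle.exists_pow_eq (Perm.mem_support.1 hx) (Perm.mem_support.1 hτx)
  refine ⟨i, Equiv.ext fun y => ?_⟩
  show (σ ^ (i : ℤ)) y = τ y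
  rw [zpow_natCast]
  by_cases hy : y ∈ σ.support
  · obtain ⟨k, rfl⟩ := hσ.isCycle.exists_pow_eq (Perm.mem_support.1 hx) (Perm.mem_support.1 hy)
    rw [← Perm.mul_apply, ← pow_add, add_comm, pow_add, Perm.mul_apply, hi, ← Perm.mul_apply, (hc.pow_left k).eq,
      Perm.mul_apply]
  · rw [show τ y = y from Perm.notMem_support.1 (h ▸ hy)]
    exact Perm.notMem_support.1 fun hm => hy (Perm.support_pow_le σ i hm)

theorem small_centralizer {r : ℕ} (hr : r.Prime) (hr2 : r ≠ 2) {σ : Perm (Fin 8)} (hσ : orderOf σ = r)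
    (h3 : ¬ σ.IsThreeCycle) : Nat.card (centralizer ({σ} : Set (Perm (Fin 8)))) < 60 := by
  obtain ⟨n, hn⟩ := cycleType_prime_order (σ := σ) (hσ ▸ hr)
  rw [hσ] at hn
  have hsum : (n + 1) * r ≤ 8 := by
    have := Perm.sum_cycleType σ
    rw [hn, Multiset.sum_replicate, smul_eq_mul] at this
    rw [this]
    exact (Finset.card_le_univ _).trans (by simp)
  have hr3 : 3 ≤ r := by have := hr.two_le; omega
  have hr8 : r ≤ 8 := le_trans (Nat.le_mul_of_pos_left r (by omega)) hsum
  have hn1 : n ≤ 1 := by
    by_contra hlt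
    have := Nat.mul_le_mul (show 3 ≤ n + 1 by omega) hr3
    omega
  rw [Perm.nat_card_centralizer, hn]
  interval_cases n <;> interval_cases r <;> first
    | omega
    | (exact absurd hn h3)
    | (exfalso; revert hr; norm_num; done)
    | norm_num [Multiset.replicate_succ, Multiset.toFinset_cons, Nat.factorial]

theorem mulAut_small {W : Type*} [Group W] [Finite W] (hW : Nat.card W ≤ 9) (hp : IsPGroup 3 W ∨ (Nat.card W).Prime) :
    Nat.card (MulAut W) < 60 := by
  classical
  haveI := Fintype.ofFinite W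
  by_cases hcyc : ∃ a : W, zpowers a = ⊤
  · obtain ⟨a, ha⟩ := hcyc
    refine lt_of_le_of_lt ((Nat.card_le_card_of_injective (fun φ : MulAut W => φ a) ?_).trans hW) (by norm_num)
    intro φ ψ e
    refine MulEquiv.ext fun x => ?_
    obtain ⟨i, rfl⟩ := mem_zpowers_iff.1 (ha.symm ▸ mem_top x : x ∈ zpowers a)
    rw [map_zpow, map_zpow]
    exact congrArg (· ^ i) e
  push Not at hcyc
  rcases hp with hp | hp
  swap
  · haveI := Fact.mk hp
    haveI : IsCyclic W := isCyclic_of_prime_card (p := Nat.card W) rfl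
    obtain ⟨g, hg⟩ := IsCyclic.exists_generator (α := W)
    exact absurd (eq_top_iff.2 fun x _ => hg x) (hcyc g)
  haveI : Fact (Nat.Prime 3) := ⟨Nat.prime_three⟩
  obtain ⟨k, hk⟩ := IsPGroup.iff_card.1 hp
  obtain ⟨a, ha⟩ : ∃ a : W, a ≠ 1 := by
    by_contra hall
    push Not at hall
    exact hcyc 1 (eq_top_iff.2 fun x _ => by rw [hall x]; exact one_mem _)
  obtain ⟨b, hb⟩ : ∃ b : W, b ∉ zpowers a := by
    by_contra hall
    push Not at hall
    exact hcyc a (eq_top_iff.2 fun x _ => hall x)
  have hgen : zpowers a ⊔ zpowers b = ⊤ := by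
    refine eq_top_of_card_eq _ ?_
    have hlt : Nat.card (zpowers a) < Nat.card (zpowers a ⊔ zpowers b : Subgroup W) := by
      refine lt_of_le_of_ne (Nat.card_le_card_of_injective _ (Subgroup.inclusion_injective le_sup_left)) fun e => hb ?_
      have := SetLike.coe_injective (Set.eq_of_subset_of_ncard_le (le_sup_left : zpowers a ≤ zpowers a ⊔ zpowers b) (by
        rw [← Nat.card_coe_set_eq, ← Nat.card_coe_set_eq]; exact e.ge))
      rw [this]; exact mem_sup_right (mem_zpowers b)
    obtain ⟨i, hi, hi'⟩ := (Nat.dvd_prime_pow Nat.prime_three).1 (hk ▸ Subgroup.card_subgroup_dvd_card (zpowers a))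
    obtain ⟨l, hl, hl'⟩ := (Nat.dvd_prime_pow Nat.prime_three).1
      (hk ▸ Subgroup.card_subgroup_dvd_card (zpowers a ⊔ zpowers b))
    have hi0 : i ≠ 0 := fun e => ha (by
      rw [e, pow_zero, Subgroup.card_eq_one, zpowers_eq_bot] at hi'; exact hi')
    have hk2 : k ≤ 2 := (Nat.pow_le_pow_iff_right (a := 3) (by norm_num)).1 (by rw [← hk]; simpa using hW)
    rw [hi', hl'] at hlt
    have := (Nat.pow_lt_pow_iff_right (a := 3) (by norm_num)).1 hlt
    rw [hl', hk, show l = k by omega]
  let S : Finset (W × W) := Finset.univ.filter fun x => x.1 ≠ 1 ∧ x.2 ≠ 1 ∧ x.1 ≠ x.2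
  have hmem : ∀ φ : MulAut W, (φ a, φ b) ∈ S := fun φ => by
    simp only [S, Finset.mem_filter, Finset.mem_univ, true_and]
    exact ⟨fun e => ha (φ.injective (e.trans (map_one φ).symm)),
      fun e => hb (by rw [φ.injective (e.trans (map_one φ).symm)]; exact one_mem _),
      fun e => hb (φ.injective e ▸ mem_zpowers a)⟩
  have hinj : Function.Injective fun φ : MulAut W => (⟨(φ a, φ b), hmem φ⟩ : S) := by
    intro φ ψ e
    have e' := congrArg Subtype.val e
    simp only [Prod.mk.injEq] at e'
    refine MulEquiv.ext fun x => ?_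
    have : zpowers a ⊔ zpowers b ≤ MonoidHom.eqLocus φ.toMonoidHom ψ.toMonoidHom :=
      sup_le (zpowers_le.2 e'.1) (zpowers_le.2 e'.2)
    exact this (hgen ▸ mem_top x)
  refine lt_of_le_of_lt (Nat.card_le_card_of_injective _ hinj) ?_
  rw [Nat.card_eq_fintype_card, Fintype.card_coe]
  set A : Finset W := Finset.univ.erase 1
  have hA : A.card ≤ 8 := by
    rw [Finset.card_erase_of_mem (Finset.mem_univ _), Finset.card_univ, ← Nat.card_eq_fintype_card]; omega
  have hsub : S ⊆ (A ×ˢ A).filter fun x => x.1 ≠ x.2 := fun x hx => by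
    simp only [S, A, Finset.mem_filter, Finset.mem_univ, true_and] at hx
    simp [A, hx]
  refine lt_of_le_of_lt (Finset.card_le_card hsub) ?_
  rw [show ((A ×ˢ A).filter fun x => x.1 ≠ x.2) = A.offDiag by ext x; simp [Finset.mem_offDiag, and_assoc],
    Finset.offDiag_card]
  have : A.card * A.card - A.card ≤ 56 := by interval_cases A.card <;> norm_num
  omega

theorem odd_radical {Q : Type*} [Group Q] [Finite Q] (f : Q →* Perm (Fin 8)) (hf : Function.Injective f)
    (hev : ∀ q, sign (f q) = 1) (hns : ¬ Group.IsSolvable Q) {r : ℕ} (hr : r.Prime) (hr2 : r ≠ 2)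
    (W : Subgroup Q) [W.Normal] (hW : IsPGroup r W) (hW1 : W ≠ ⊥) :
    r = 3 ∧ Nat.card W = 3 ∧ (Nonempty (Q ⧸ W ≃* alternatingGroup (Fin 5)) ∨ Nonempty (Q ⧸ W ≃* Perm (Fin 5))) := by
  classical
  haveI := Fact.mk hr
  obtain ⟨k, hk⟩ := IsPGroup.iff_card.1 hW
  have hk0 : k ≠ 0 := fun e => hW1 (Subgroup.card_eq_one.1 (by rw [hk, e, pow_zero]))
  -- the order of the normal subgroup
  have hdvd : r ^ k ∣ 20160 := by
    let f' : W →* alternatingGroup (Fin 8) := (f.comp W.subtype).codRestrict _ fun w => mem_alternatingGroup.2 (hev _)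
    have h := Subgroup.card_dvd_of_injective f' fun a b e =>
      Subtype.ext (hf (congrArg Subtype.val e))
    have h8 := (alternatingGroup (Fin 8)).card_mul_index
    rw [alternatingGroup.index_eq_two, Nat.card_perm, Nat.card_fin] at h8
    rwa [hk, show Nat.card (alternatingGroup (Fin 8)) = 20160 by simp only [Nat.factorial] at h8; omega] at h
  have hrd : r ∣ 20160 := (dvd_pow_self r hk0).trans hdvd
  have hr7 : r = 3 ∨ r = 5 ∨ r = 7 := by
    have h1 : r ∣ 2 ^ 6 * (3 ^ 2 * (5 * 7)) := by norm_num; exact hrd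
    rcases hr.dvd_mul.1 h1 with h | h
    · exact absurd ((Nat.prime_dvd_prime_iff_eq hr Nat.prime_two).1 (hr.dvd_of_dvd_pow h)) hr2
    rcases hr.dvd_mul.1 h with h | h
    · exact Or.inl ((Nat.prime_dvd_prime_iff_eq hr Nat.prime_three).1 (hr.dvd_of_dvd_pow h))
    rcases hr.dvd_mul.1 h with h | h
    · exact Or.inr (Or.inl ((Nat.prime_dvd_prime_iff_eq hr (by norm_num)).1 h))
    · exact Or.inr (Or.inr ((Nat.prime_dvd_prime_iff_eq hr (by norm_num)).1 h))
  have hk1 : k = 1 ∨ (r = 3 ∧ k = 2) := by
    have hb : ∀ m, r ^ m ∣ 20160 → ¬ (r ^ m ∣ 20160) → False := fun m h h' => h' h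
    rcases hr7 with rfl | rfl | rfl
    · by_contra hc
      push Not at hc
      exact hb 3 ((pow_dvd_pow 3 (by omega)).trans hdvd) (by norm_num)
    · by_contra hc
      exact hb 2 ((pow_dvd_pow 5 (by push Not at hc; omega)).trans hdvd) (by norm_num)
    · by_contra hc
      exact hb 2 ((pow_dvd_pow 7 (by push Not at hc; omega)).trans hdvd) (by norm_num)
  have hcard9 : Nat.card W ≤ 9 := by
    rw [hk]; rcases hk1 with rfl | ⟨rfl, rfl⟩
    · rw [pow_one]; omega
    · norm_num
  -- every non-trivial member is a three-cycle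
  have hall : ∀ w ∈ W, orderOf w = r → (f w).IsThreeCycle := by
    intro w hw ho
    by_contra h3
    have hC := small_centralizer hr hr2 (σ := f w) (by rw [orderOf_injective f hf, ho]) h3
    let C := centralizer (W : Set Q)
    have hCs : Group.IsSolvable C := by
      by_contra hC'
      have h60 := Cfsg.Lib.SolvStruct.AltEight.sixty_le hC'
      have := Nat.card_le_card_of_injective (fun c : C => (⟨f c, mem_centralizer_singleton_iff.2 (by
        rw [← map_mul, ← map_mul, mem_centralizer_iff.1 c.2 w hw])⟩ : centralizer ({f w} : Set (Perm (Fin 8)))))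
        fun a b e => Subtype.ext (hf (congrArg Subtype.val e))
      omega
    haveI := hCs
    haveI : Group.IsSolvable (MulAut W) := by
      refine Cfsg.Lib.Presentations.isSolvable_of_card_lt_sixty _ _ rfl (mulAut_small hcard9 ?_)
      rcases hk1 with rfl | ⟨rfl, rfl⟩
      · exact Or.inr (by rw [hk, pow_one]; exact hr)
      · exact Or.inl hW
    refine hns (Group.isSolvable_of_ker_le_range C.subtype (MulAut.conjNormal (H := W)) ?_)
    intro q hq
    rw [Subgroup.range_subtype, mem_centralizer_iff]
    intro x hx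
    have h1 := congrArg Subtype.val (DFunLike.congr_fun (MonoidHom.mem_ker.1 hq) (⟨x, hx⟩ : W))
    rw [MulAut.conjNormal_apply, MulAut.one_apply] at h1
    exact (mul_inv_eq_iff_eq_mul.1 h1).symm
  obtain ⟨⟨w, hwW⟩, hwo'⟩ := exists_prime_orderOf_dvd_card' (G := W) r (hk ▸ dvd_pow_self r hk0)
  have hwo : orderOf w = r := by rw [← hwo', Subgroup.orderOf_mk]
  have hw3 := hall w hwW hwo
  obtain rfl : r = 3 := by rw [← hwo, ← orderOf_injective f hf]; exact hw3.orderOf
  have hfo : ∀ {x : Q}, (f x).IsThreeCycle → orderOf x = 3 := fun {x} h => by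
    rw [← orderOf_injective f hf]; exact h.orderOf
  -- the normal subgroup is generated by one three-cycle
  have hWw : W = zpowers w := by
    refine le_antisymm (fun b hb => ?_) (zpowers_le.2 hwW)
    by_contra hbn
    have hsub : ∀ x, x ∈ W → x ≠ 1 → (orderOf x = 3 ∨ 9 ∣ orderOf x) := by
      intro x hx hx1
      obtain ⟨i, hi, hi'⟩ := (Nat.dvd_prime_pow Nat.prime_three).1 (hk ▸ Subgroup.orderOf_dvd_natCard W hx)
      rcases Nat.lt_or_ge i 2 with h | h
      · interval_cases i
        · exact absurd (orderOf_eq_one_iff.1 hi') hx1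
        · exact Or.inl hi'
      · exact Or.inr (hi' ▸ dvd_trans (by norm_num) (pow_dvd_pow 3 h))
    have hb1 : b ≠ 1 := fun e => hbn (e ▸ one_mem _)
    have hk2 : k = 2 := by
      rcases hk1 with h | ⟨-, h⟩
      · exfalso
        have : zpowers w = W := SetLike.coe_injective (Set.eq_of_subset_of_ncard_le (zpowers_le.2 hwW) (by
          rw [← Nat.card_coe_set_eq, ← Nat.card_coe_set_eq]
          exact (hk.trans (by rw [h, pow_one])).le.trans (by rw [SetLike.coe_sort_coe, Nat.card_zpowers, hwo])))
        exact hbn (this ▸ hb)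
      · exact h
    have hnoncyc : ∀ x ∈ W, x ≠ 1 → orderOf x = 3 := by
      intro x hx hx1
      rcases hsub x hx hx1 with h | h
      · exact h
      · exfalso
        have hx9 : zpowers x = W := SetLike.coe_injective (Set.eq_of_subset_of_ncard_le (zpowers_le.2 hx) (by
          rw [← Nat.card_coe_set_eq, ← Nat.card_coe_set_eq]
          show Nat.card W ≤ Nat.card (zpowers x)
          rw [Nat.card_zpowers, hk, hk2]
          exact Nat.le_of_dvd (orderOf_pos x) h))
        obtain ⟨i, rfl⟩ := mem_zpowers_iff.1 (hx9.symm ▸ hwW : w ∈ zpowers x)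
        have h9 : orderOf (f x) = 9 := by
          rw [orderOf_injective f hf, ← Nat.card_zpowers, hx9, hk, hk2]; rfl
        have hd : 9 ∣ (f x).cycleType.lcm := by rw [Perm.lcm_cycleType, h9]
        have hle : ∀ n ∈ (f x).cycleType, n ∣ Nat.factorial 8 / 3 := by
          intro n hn
          have h1 := Multiset.le_sum_of_mem hn
          rw [Perm.sum_cycleType] at h1
          have h2 : n ≤ 8 := h1.trans ((Finset.card_le_univ _).trans (by simp))
          have h3 := Perm.two_le_of_mem_cycleType hn
          interval_cases n <;> norm_num [Nat.factorial]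
        have h4 := dvd_trans hd (Multiset.lcm_dvd.2 hle)
        norm_num [Nat.factorial] at h4
    have hb3 := hall b hb (hnoncyc b hb hb1)
    have hwb : w * b ≠ 1 := fun e => hbn (by rw [eq_inv_of_mul_eq_one_right e]; exact inv_mem (mem_zpowers w))
    have hwb3 := hall _ (mul_mem hwW hb) (hnoncyc _ (mul_mem hwW hb) hwb)
    rw [map_mul] at hwb3
    have hcom : Commute (f w) (f b) := by
      have hWc : IsMulCommutative W := IsPGroup.isMulCommutative_of_card_eq_prime_sq (p := 3) (by rw [hk, hk2])
      exact (show Commute w b from congrArg Subtype.val (hWc.is_comm.comm ⟨w, hwW⟩ ⟨b, hb⟩)).map f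
    by_cases hd : Perm.Disjoint (f w) (f b)
    · have := hwb3
      rw [IsThreeCycle, hd.cycleType_mul, hw3, hb3] at this
      exact absurd (congrArg Multiset.card this) (by simp)
    · rw [disjoint_iff_disjoint_support, Finset.not_disjoint_iff] at hd
      obtain ⟨x, hxw, hxb⟩ := hd
      have heq : (f b).support = (f w).support := by
        refine Finset.eq_of_subset_of_card_le (fun y hy => ?_) (by rw [hw3.card_support, hb3.card_support])
        obtain ⟨i, rfl⟩ := hb3.isCycle.exists_pow_eq (Perm.mem_support.1 hxb) (Perm.mem_support.1 hy)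
        rw [Perm.mem_support, ← Perm.mul_apply, ((hcom.pow_right i)).eq, Perm.mul_apply]
        exact fun e => Perm.mem_support.1 hxw (((f b) ^ i).injective e)
      obtain ⟨i, hi⟩ := mem_zpowers_iff.1 (mem_zpowers_of_same_support hw3 hb3 heq)
      exact hbn (mem_zpowers_iff.2 ⟨i, hf (by rw [map_zpow]; exact hi)⟩)
  have hW3 : Nat.card W = 3 := by rw [hWw, Nat.card_zpowers, hwo]
  refine ⟨rfl, hW3, ?_⟩
  -- the action on the five other points
  set S := (f w).support with hS
  have hpres : ∀ (q : Q) (x : Fin 8), (f q x ∉ S) ↔ x ∉ S := by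
    intro q x
    have hmem : q * w * q⁻¹ ∈ W := Subgroup.Normal.conj_mem inferInstance w hwW q
    have h3 : (f (q * w * q⁻¹)).IsThreeCycle := by
      rw [map_mul, map_mul, map_inv]
      show Perm.cycleType _ = _
      rw [Perm.cycleType_conj]; exact hw3
    have hsupp : (f (q * w * q⁻¹)).support = S := by
      obtain ⟨i, hi⟩ := mem_zpowers_iff.1 (hWw ▸ hmem)
      refine Finset.eq_of_subset_of_card_le (fun y hy => ?_) (by rw [h3.card_support, hw3.card_support])
      rw [← hi, map_zpow] at hy
      exact Perm.support_zpow_le (f w) i hy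
    have : f q x ∈ (f (q * w * q⁻¹)).support ↔ x ∈ S := by
      rw [map_mul, map_mul, map_inv, hS, Perm.support_conj, Finset.mem_map_equiv]
      simp
    rw [hsupp] at this
    exact not_congr this
  let ψ := Cfsg.Lib.SolvStruct.AltEight.restrict f (fun x => x ∉ S) hpres
  have hker : ψ.ker = W := by
    apply le_antisymm
    · intro q hq
      rw [Cfsg.Lib.SolvStruct.AltEight.mem_ker_restrict] at hq
      have hsub : (f q).support ⊆ S := fun x hx => by
        by_contra hxS
        exact Perm.mem_support.1 hx (hq x hxS)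
      have hle : (f q).support.card ≤ 3 := (Finset.card_le_card hsub).trans hw3.card_support.le
      rcases Nat.lt_or_ge (f q).support.card 3 with h | h
      · rcases Nat.lt_or_ge (f q).support.card 2 with h' | h'
        · have : f q = 1 := Perm.card_support_le_one.1 (by omega)
          rw [hf (this.trans (map_one f).symm)]; exact one_mem _
        · exfalso
          have hs : (f q).IsSwap := Perm.card_support_eq_two.1 (by omega)
          exact absurd (hev q) (by rw [hs.sign_eq]; decide)
      · have h3 : (f q).IsThreeCycle := card_support_eq_three_iff.1 (le_antisymm hle h)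
        obtain ⟨i, hi⟩ := mem_zpowers_iff.1 (mem_zpowers_of_same_support hw3 h3
          (Finset.eq_of_subset_of_card_le hsub (by rw [hw3.card_support, h3.card_support])))
        rw [hWw]
        exact mem_zpowers_iff.2 ⟨i, hf (by rw [map_zpow]; exact hi)⟩
    · intro q hq
      rw [Cfsg.Lib.SolvStruct.AltEight.mem_ker_restrict]
      intro x hx
      obtain ⟨i, rfl⟩ := mem_zpowers_iff.1 (hWw ▸ hq)
      rw [map_zpow]
      exact Perm.notMem_support.1 fun hm => hx (Perm.support_zpow_le (f w) i hm)
  have h5 : Fintype.card {x : Fin 8 // x ∉ S} = 5 := by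
    rw [Fintype.card_subtype_compl, Fintype.card_fin, Fintype.card_coe, hw3.card_support]
  let ψ' : Q ⧸ W →* Perm {x : Fin 8 // x ∉ S} :=
    (QuotientGroup.kerLift ψ).comp (QuotientGroup.quotientMulEquivOfEq hker.symm).toMonoidHom
  have hψ' : Function.Injective ψ' := (QuotientGroup.kerLift_injective ψ).comp (MulEquiv.injective _)
  have hns' : ¬ Group.IsSolvable (Q ⧸ W) := by
    intro h
    haveI := h
    haveI : Group.IsSolvable W := by
      haveI := hW.isNilpotent
      infer_instance
    exact hns (Group.isSolvable_of_ker_le_range W.subtype (QuotientGroup.mk' W)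
      (by rw [QuotientGroup.ker_mk', Subgroup.range_subtype]))
  have h60 := Cfsg.Lib.SolvStruct.AltEight.sixty_le hns'
  have h120 : Nat.card (Q ⧸ W) ∣ 120 := by
    have := Subgroup.card_dvd_of_injective ψ' hψ'
    rwa [Nat.card_perm, Nat.card_eq_fintype_card (α := {x : Fin 8 // x ∉ S}), h5] at this
  obtain ⟨hA, hB⟩ := Cfsg.Lib.SolvStruct.AltEight.five h5 ψ' hψ'
  obtain ⟨c, hc⟩ := h120
  have hc2 : c ≤ 2 := by
    by_contra hlt
    have := Nat.mul_le_mul h60 (show 3 ≤ c by omega)
    omega
  interval_cases c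
  · omega
  · exact Or.inr (hA (by omega))
  · exact Or.inl (hB (by omega))

end Cfsg.Lib.SymSixSection
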