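import Cfsg.Agent.SolvStruct.SectRankFour
import Cfsg.Agent.SolvStruct.AltEight.Main
import Cfsg.Agent.SolvStruct.SymSixSection.OddRadical
import Cfsg.Agent.SolvStruct.SymSixSection.Lifts
import Cfsg.Agent.PGroups.SectionalRankTwo
import Cfsg.Agent.OddChar.PF.OddOrder

/-!
Radical quotients of non-solvable constrained groups of small sectional rank.
-/

set_option autoImplicit false
set_option linter.unusedSectionVars false
set_option linter.style.haveILetI false

namespace Cfsg.Lib.SymSixSection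

open Subgroup

universe u
variable {X : Type u} [Group X] [Finite X]

theorem pCore_quotient_bot : Cfsg.pCore 2 (X ⧸ Cfsg.pCore 2 X) = ⊥ := by
  haveI : Fact (Nat.Prime 2) := ⟨Nat.prime_two⟩
  set P := Cfsg.pCore 2 X
  set N := (Cfsg.pCore 2 (X ⧸ P)).comap (QuotientGroup.mk' P)
  haveI : N.Normal := Normal.comap inferInstance _
  have hN : IsPGroup 2 N := by
    refine (Cfsg.Lib.Components.isPGroup_pCore (G := X ⧸ P) 2).comap_of_ker_isPGroup _ ?_
    rw [QuotientGroup.ker_mk']
    exact Cfsg.Lib.Components.isPGroup_pCore 2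
  rw [eq_bot_iff]
  intro x hx
  obtain ⟨y, rfl⟩ := QuotientGroup.mk'_surjective P x
  exact Subgroup.mem_bot.2 ((QuotientGroup.eq_one_iff y).2 (Cfsg.Lib.Components.le_pCore hN hx))

theorem quotient_nonsolvable (hns : ¬ Group.IsSolvable X) : ¬ Group.IsSolvable (X ⧸ Cfsg.pCore 2 X) := by
  intro h
  haveI := h
  haveI : Fact (Nat.Prime 2) := ⟨Nat.prime_two⟩
  haveI : Group.IsSolvable (Cfsg.pCore 2 X) := by
    haveI := (Cfsg.Lib.Components.isPGroup_pCore (G := X) 2).isNilpotent
    infer_instance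
  exact hns (Group.isSolvable_of_ker_le_range (Cfsg.pCore 2 X).subtype (QuotientGroup.mk' (Cfsg.pCore 2 X))
    (by rw [QuotientGroup.ker_mk', Subgroup.range_subtype]))

theorem cases_of_embedding {Q : Type u} [Group Q] [Finite Q] (hQ : Cfsg.pCore 2 Q = ⊥)
    (hns : ¬ Group.IsSolvable Q) (f : Q →* ↥(alternatingGroup (Fin 8))) (hf : Function.Injective f) :
    (∃ (F : Type) (_ : Field F) (_ : Fintype F), Fintype.card F = 2 ∧
        Nonempty (Q ≃* Matrix.ProjectiveSpecialLinearGroup (Fin 3) F)) ∨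
      (∃ n : ℕ, 5 ≤ n ∧ n ≤ 8 ∧ Nonempty (Q ≃* ↥(alternatingGroup (Fin n)))) ∨
      (∃ n : ℕ, 5 ≤ n ∧ n ≤ 7 ∧ Nonempty (Q ≃* Equiv.Perm (Fin n))) ∨
      (Nat.card ↥(Cfsg.pCore 3 Q) = 3 ∧ (Nonempty (Q ⧸ Cfsg.pCore 3 Q ≃* ↥(alternatingGroup (Fin 5))) ∨
          Nonempty (Q ⧸ Cfsg.pCore 3 Q ≃* Equiv.Perm (Fin 5)))) := by
  classical
  haveI : Fact (Nat.Prime 3) := ⟨Nat.prime_three⟩
  let f' : Q →* Equiv.Perm (Fin 8) := (alternatingGroup (Fin 8)).subtype.comp f
  have hf' : Function.Injective f' := (Subgroup.subtype_injective _).comp hf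
  have hev : ∀ q, Equiv.Perm.sign (f' q) = 1 := fun q => Equiv.Perm.mem_alternatingGroup.1 (f q).2
  by_cases hO : Cfsg.pPrimeCore 2 Q = ⊥
  · obtain ⟨e⟩ := Cfsg.Lib.SectRankFour.gl_to_alt
    let g : Q →* GL (Fin 4) (ZMod 2) := e.symm.toMonoidHom.comp f
    have hg : Function.Injective g := e.symm.injective.comp hf
    let e' : Q ≃* g.range := MonoidHom.ofInjective hg
    have hH : g.range ≠ ⊥ := fun h => hns (by
      haveI : Subsingleton g.range := by rw [h]; infer_instance
      haveI : Subsingleton Q := e'.toEquiv.subsingleton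
      infer_instance)
    have hO' : Cfsg.pPrimeCore 2 ↥g.range = ⊥ := by
      rw [eq_bot_iff]
      intro x hx
      have hle : (Cfsg.pPrimeCore 2 ↥g.range).comap e'.toMonoidHom ≤ Cfsg.pPrimeCore 2 Q := by
        haveI : ((Cfsg.pPrimeCore 2 ↥g.range).comap e'.toMonoidHom).Normal := Normal.comap inferInstance _
        refine Cfsg.Lib.Components.le_pPrimeCore ?_
        have hcc : Nat.card ((Cfsg.pPrimeCore 2 ↥g.range).comap e'.toMonoidHom) = Nat.card (Cfsg.pPrimeCore 2 ↥g.range) :=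
          Nat.card_congr (Equiv.subtypeEquiv e'.toEquiv fun q => Iff.rfl)
        rw [hcc]
        exact Cfsg.Lib.Components.coprime_card_pPrimeCore 2
      obtain ⟨q, rfl⟩ := e'.surjective x
      have h1 := hle (show q ∈ (Cfsg.pPrimeCore 2 ↥g.range).comap e'.toMonoidHom from hx)
      rw [hO, Subgroup.mem_bot] at h1
      rw [h1, map_one]; exact one_mem _
    have hO2 : Cfsg.pCore 2 ↥g.range = ⊥ := by
      rw [eq_bot_iff]
      intro x hx
      have hle : (Cfsg.pCore 2 ↥g.range).comap e'.toMonoidHom ≤ Cfsg.pCore 2 Q := by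
        haveI : ((Cfsg.pCore 2 ↥g.range).comap e'.toMonoidHom).Normal := Normal.comap inferInstance _
        exact Cfsg.Lib.Components.le_pCore
          ((Cfsg.Lib.Components.isPGroup_pCore 2).comap_of_injective _ e'.injective)
      obtain ⟨q, rfl⟩ := e'.surjective x
      have h1 := hle (show q ∈ (Cfsg.pCore 2 ↥g.range).comap e'.toMonoidHom from hx)
      rw [hQ, Subgroup.mem_bot] at h1
      rw [h1, map_one]; exact one_mem _
    rcases Cfsg.Lib.SolvStruct.AltEight.main g.range hH hO' hO2 with ⟨n, h5, h8, ⟨i⟩⟩ | ⟨⟨i⟩⟩ | ⟨⟨i⟩⟩ | ⟨⟨i⟩⟩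
    · exact Or.inr (Or.inl ⟨n, h5, h8, ⟨e'.trans i⟩⟩)
    · exact Or.inr (Or.inr (Or.inl ⟨5, le_rfl, by norm_num, ⟨e'.trans i⟩⟩))
    · exact Or.inr (Or.inr (Or.inl ⟨6, by norm_num, by norm_num, ⟨e'.trans i⟩⟩))
    · haveI : Fact (Nat.Prime 2) := ⟨Nat.prime_two⟩
      obtain ⟨i'⟩ := Cfsg.Lib.SolvStruct.AltEight.gl_equiv_psl 3
      exact Or.inl ⟨ZMod 2, inferInstance, inferInstance, ZMod.card 2, ⟨(e'.trans i).trans i'⟩⟩
  · refine Or.inr (Or.inr (Or.inr ?_))
    set R := Cfsg.pPrimeCore 2 Q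
    have hodd : Odd (Nat.card R) := Nat.coprime_two_right.1 (Cfsg.Lib.Components.coprime_card_pPrimeCore 2)
    haveI : Group.IsSolvable R := Cfsg.Agent.PF.isSolvable_of_odd R hodd
    haveI : Nontrivial R := (Subgroup.nontrivial_iff_ne_bot R).2 hO
    obtain ⟨r, hr, hW⟩ := Cfsg.Agent.S4005.exists_pCore_ne_bot R
    haveI := Fact.mk hr
    set W := (Cfsg.pCore r R).map R.subtype with hWdef
    haveI : W.Normal := ConjAct.normal_of_characteristic_of_normal
    have hWp : IsPGroup r W := (Cfsg.Lib.Components.isPGroup_pCore r).map _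
    have hW1 : W ≠ ⊥ := fun h => hW ((Subgroup.map_eq_bot_iff_of_injective _ R.subtype_injective).1 h)
    have hr2 : r ≠ 2 := fun h => by
      subst h
      exact hW1 (eq_bot_iff.2 (hQ ▸ Cfsg.Lib.Components.le_pCore hWp))
    obtain ⟨rfl, -, -⟩ := odd_radical f' hf' hev hns hr hr2 W hWp hW1
    obtain ⟨-, h3, hcase⟩ := odd_radical f' hf' hev hns hr hr2 (Cfsg.pCore 3 Q)
      (Cfsg.Lib.Components.isPGroup_pCore 3)
      (fun h => hW1 (eq_bot_iff.2 (h ▸ Cfsg.Lib.Components.le_pCore hWp)))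
    exact ⟨h3, hcase⟩

theorem not_sectional (hc : Cfsg.IsPConstrained 2 X) (hO : Cfsg.pPrimeCore 2 X = ⊥)
    (hr : Cfsg.SectionalPRankLE 2 4 X) (j : Equiv.Perm (Fin 6) →* X ⧸ Cfsg.pCore 2 X)
    (hj : Function.Injective j) : False := by
  classical
  haveI : Fact (Nat.Prime 2) := ⟨Nat.prime_two⟩
  set P := Cfsg.pCore 2 X
  have hP : IsPGroup 2 P := Cfsg.Lib.Components.isPGroup_pCore 2
  have hcen : centralizer (P : Set X) ≤ P := Cfsg.Lib.ZJ.charP_of_isPConstrained hO hc
  haveI hcomm := Cfsg.Lib.PGroups.isMulCommutative_quotient_frattini hP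
  obtain ⟨n, hn⟩ := IsPGroup.iff_card.1 hP
  obtain ⟨r, hr'⟩ := hP.index (frattini P)
  set Φ := (frattini P).map P.subtype with hΦ
  haveI : Φ.Normal := ConjAct.normal_of_characteristic_of_normal
  set π := QuotientGroup.mk' Φ
  set V := P.map π
  haveI : V.Normal := Normal.map inferInstance _ (QuotientGroup.mk'_surjective _)
  have hΦP : Φ ≤ P := Subgroup.map_subtype_le _
  let π₀ : X ⧸ Φ →* X ⧸ P := QuotientGroup.map Φ P (MonoidHom.id X) (by simpa using hΦP)
  have hπ₀ : Function.Surjective π₀ := fun q => by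
    obtain ⟨x, rfl⟩ := QuotientGroup.mk'_surjective P q
    exact ⟨π x, rfl⟩
  have hker : π₀.ker = V := by
    ext y
    obtain ⟨x, rfl⟩ := QuotientGroup.mk'_surjective Φ y
    rw [MonoidHom.mem_ker]
    constructor
    · intro h
      exact mem_map_of_mem _ ((QuotientGroup.eq_one_iff x).1 h)
    · rintro ⟨x', hx', e⟩
      change (x : X ⧸ P) = 1
      rw [QuotientGroup.eq_one_iff]
      have h1 : x'⁻¹ * x ∈ P := hΦP (QuotientGroup.eq.1 e)
      simpa using P.mul_mem hx' h1
  have memΦ : ∀ {a : P}, a ∈ frattini P → π (a : X) = 1 := fun {a} ha =>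
    (QuotientGroup.eq_one_iff _).2 (mem_map_of_mem _ ha)
  refine no_section V ?_ ?_ ?_ π₀ hπ₀ hker j hj (Cfsg.Lib.SectionalRankTwo.sectional_quotient hr Φ)
  · rintro _ ⟨a, ha, rfl⟩ _ ⟨b, hb, rfl⟩
    have h1 : ((⟨b, hb⟩ : P) * ⟨a, ha⟩)⁻¹ * (⟨a, ha⟩ * ⟨b, hb⟩) ∈ frattini P :=
      QuotientGroup.eq.1 (hcomm.is_comm.comm (QuotientGroup.mk (⟨b, hb⟩ : P)) (QuotientGroup.mk (⟨a, ha⟩ : P)))
    have h2 := memΦ h1
    rw [Subgroup.coe_mul, Subgroup.coe_inv, Subgroup.coe_mul, Subgroup.coe_mul, map_mul, map_inv, inv_mul_eq_one] at h2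
    rw [← map_mul, ← map_mul]
    exact h2.symm
  · rintro _ ⟨a, ha, rfl⟩
    have h2 := memΦ (Cfsg.Lib.PGroups.pow_mem_frattini hP (⟨a, ha⟩ : P))
    rw [← map_mul, ← h2, Subgroup.coe_pow, pow_two]
  · -- the preimage of the centraliser is a 2-group
    set C := (centralizer (V : Set (X ⧸ Φ))).comap π
    haveI : (centralizer (V : Set (X ⧸ Φ))).Normal := Subgroup.normal_centralizer
    haveI : C.Normal := Normal.comap inferInstance _
    have hCP : IsPGroup 2 C := by
      have hA : IsPGroup 2 (C.map (MulAut.conjNormal (H := P))) := by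
        have hd := Cfsg.Lib.PGroups.card_stabilizing_dvd hn hr' (C.map (MulAut.conjNormal (H := P))) (by
          rintro _ ⟨g, hg, rfl⟩ x
          have h1 : π g * π (x : X) = π (x : X) * π g :=
            (mem_centralizer_iff.1 hg _ (mem_map_of_mem π x.2)).symm
          have h2 : π ((MulAut.conjNormal g x * x⁻¹ : P) : X) = 1 := by
            rw [Subgroup.coe_mul, MulAut.conjNormal_apply, Subgroup.coe_inv, map_mul, map_mul, map_mul, map_inv,
              map_inv, h1]
            group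
          obtain ⟨a, ha, e⟩ := (QuotientGroup.eq_one_iff _).1 h2
          rwa [← Subtype.ext e])
        obtain ⟨k, -, hk⟩ := (Nat.dvd_prime_pow Nat.prime_two).1 hd
        exact IsPGroup.of_card hk
      have hk : IsPGroup 2 (MulAut.conjNormal (H := P)).ker := hP.to_le (fun g hg => hcen (by
        rw [Subgroup.mem_centralizer_iff]
        intro x hx
        have h1 := congrArg Subtype.val (DFunLike.congr_fun (MonoidHom.mem_ker.1 hg) ⟨x, hx⟩)
        rw [MulAut.conjNormal_apply, MulAut.one_apply] at h1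
        exact (mul_inv_eq_iff_eq_mul.1 h1).symm))
      exact (hA.comap_of_ker_isPGroup _ hk).to_le (Subgroup.le_comap_map _ _)
    intro y hy
    obtain ⟨x, rfl⟩ := QuotientGroup.mk'_surjective Φ y
    exact mem_map_of_mem π (Cfsg.Lib.Components.le_pCore hCP hy)

/-- the embedding of degree six into a symmetric group of higher degree -/
def six_seven : Equiv.Perm (Fin 6) →* Equiv.Perm (Fin 7) :=
  finSumFinEquiv.permCongrHom.toMonoidHom.comp
    ((Equiv.Perm.sumCongrHom (Fin 6) (Fin 1)).comp ((MonoidHom.id _).prod 1))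

theorem six_seven_injective : Function.Injective six_seven :=
  (Equiv.permCongrHom _).injective.comp (Equiv.Perm.sumCongrHom_injective.comp fun _ _ e => congrArg Prod.fst e)

/-- signs as permutations of two points -/
def signTwo : ℤˣ →* Equiv.Perm (Fin 2) where
  toFun u := if u = 1 then 1 else Equiv.swap 0 1
  map_one' := by simp
  map_mul' := by decide

/-- the embedding of degree six into the even permutations of eight points -/
def six_eight : Equiv.Perm (Fin 6) →* ↥(alternatingGroup (Fin 8)) :=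
  ((finSumFinEquiv.permCongrHom.toMonoidHom.comp
    ((Equiv.Perm.sumCongrHom (Fin 6) (Fin 2)).comp
      ((MonoidHom.id _).prod (signTwo.comp Equiv.Perm.sign))))).codRestrict _ fun σ => by
    rw [Equiv.Perm.mem_alternatingGroup]
    show Equiv.Perm.sign (finSumFinEquiv.permCongr (Equiv.Perm.sumCongr σ (signTwo (Equiv.Perm.sign σ)))) = 1
    rw [Equiv.Perm.sign_permCongr, Equiv.Perm.sign_sumCongr]
    rcases Int.units_eq_one_or (Equiv.Perm.sign σ) with h | h <;> rw [h] <;> decide

theorem six_eight_injective : Function.Injective six_eight := fun a b e => by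
  have h := (Equiv.permCongrHom _).injective (congrArg Subtype.val e)
  exact congrArg Prod.fst (Equiv.Perm.sumCongrHom_injective h)

end Cfsg.Lib.SymSixSection
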