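import Mathlib

/-!
Involutions of an automorphism group of an elementary abelian group of order sixteen that centralise one and invert
another element of order three.
-/

set_option autoImplicit false
set_option linter.unusedSectionVars false
set_option linter.style.haveILetI false

namespace Cfsg.Lib.SymSixSection

open Subgroup

variable {V : Type*} [CommGroup V]

/-- the fixed subgroup of an automorphism -/
def fix (φ : MulAut V) : Subgroup V where
  carrier := {a | φ a = a}
  one_mem' := map_one φ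
  mul_mem' := fun {a b} (ha : φ a = a) (hb : φ b = b) => show φ (a * b) = a * b by rw [map_mul, ha, hb]
  inv_mem' := fun {a} (ha : φ a = a) => show φ a⁻¹ = a⁻¹ by rw [map_inv, ha]

@[simp] theorem mem_fix {φ : MulAut V} {a : V} : a ∈ fix φ ↔ φ a = a := Iff.rfl

theorem fix_ne_top {φ : MulAut V} (h : φ ≠ 1) : fix φ ≠ ⊤ := fun e => h (MulEquiv.ext fun a => by
  have : a ∈ fix φ := e ▸ mem_top a
  exact this)

theorem card_fix_modEq [Finite V] {φ : MulAut V} (h3 : φ ^ 3 = 1) :
    Nat.card V ≡ Nat.card (fix φ) [MOD 3] := by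
  haveI : Fact (Nat.Prime 3) := ⟨Nat.prime_three⟩
  have hP : IsPGroup 3 (zpowers φ) := fun ⟨x, hx⟩ => by
    obtain ⟨i, rfl⟩ := mem_zpowers_iff.1 hx
    exact ⟨1, Subtype.ext (show (φ ^ i) ^ (3 ^ 1) = 1 by
      rw [pow_one, ← zpow_natCast, ← zpow_mul, mul_comm, zpow_mul, zpow_natCast, h3, one_zpow])⟩
  have e : MulAction.fixedPoints (zpowers φ) V = (fix φ : Set V) := by
    ext a
    constructor
    · intro h
      exact h ⟨φ, mem_zpowers φ⟩
    · rintro (ha : φ a = a) ⟨x, hx⟩
      have h1 : φ ∈ MulAction.stabilizer (MulAut V) a := ha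
      exact (zpowers_le.2 h1) hx
  have h := hP.card_modEq_card_fixedPoints V
  rwa [Nat.card_congr (Equiv.setCongr e)] at h

variable (hexp : ∀ a : V, a * a = 1)
include hexp

theorem inv_self' (a : V) : a⁻¹ = a := inv_eq_of_mul_eq_one_left (hexp a)

theorem eq_of_mul_one {a b : V} (h : a * b = 1) : b = a := by rw [← inv_eq_of_mul_eq_one_right h, inv_self' hexp]

/-- a subgroup of order four on which an element of order three moves a member -/
theorem orbit_four [Finite V] {C : Subgroup V} (hC : Nat.card C = 4) {k : MulAut V} (hk : k ^ 3 = 1)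
    (hkC : ∀ x ∈ C, k x ∈ C) {c : V} (hc : c ∈ C) (hmv : k c ≠ c) :
    (∀ x ∈ C, x = 1 ∨ x = c ∨ x = k c ∨ x = k (k c)) ∧ c * k c * k (k c) = 1 ∧
      k (k (k c)) = c ∧ k (k c) ≠ c ∧ k (k c) ≠ k c ∧ c ≠ 1 := by
  classical
  have h3 : ∀ x, k (k (k x)) = x := fun x => by
    have := DFunLike.congr_fun hk x
    simpa [pow_succ] using this
  have hc1 : c ≠ 1 := fun e => hmv (by rw [e, map_one])
  have h2a : k (k c) ≠ c := fun e => hmv (by
    have := h3 c
    rw [e] at this; exact this)
  have h2b : k (k c) ≠ k c := fun e => hmv (k.injective e)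
  have hk1 : k c ≠ 1 := fun e => hc1 (k.injective (e.trans (map_one k).symm))
  have hk2 : k (k c) ≠ 1 := fun e => hk1 (k.injective (e.trans (map_one k).symm))
  have hall : ∀ x ∈ C, x = 1 ∨ x = c ∨ x = k c ∨ x = k (k c) := by
    intro x hx
    by_contra hne
    push Not at hne
    obtain ⟨n1, n2, n3, n4⟩ := hne
    have hsub : ({x, 1, c, k c, k (k c)} : Finset V) ⊆ (C : Set V).toFinite.toFinset := by
      intro y hy
      simp only [Finset.mem_insert, Finset.mem_singleton] at hy
      rw [Set.Finite.mem_toFinset]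
      rcases hy with rfl | rfl | rfl | rfl | rfl
      exacts [hx, C.one_mem, hc, hkC _ hc, hkC _ (hkC _ hc)]
    have h5 := Finset.card_le_card hsub
    rw [← Set.ncard_eq_toFinset_card _ (C : Set V).toFinite,
      show (C : Set V).ncard = 4 from hC ▸ (Nat.card_coe_set_eq (C : Set V)).symm] at h5
    rw [Finset.card_insert_of_notMem (by simp [n1, n2, n3, n4]),
      Finset.card_insert_of_notMem (by simp [Ne.symm hc1, Ne.symm hk1, Ne.symm hk2]),
      Finset.card_insert_of_notMem (by simp [Ne.symm hmv, Ne.symm h2a]),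
      Finset.card_insert_of_notMem (by simp [Ne.symm h2b]), Finset.card_singleton] at h5
    omega
  refine ⟨hall, ?_, h3 c, h2a, h2b, hc1⟩
  rcases hall _ (C.mul_mem hc (hkC _ hc)) with e | e | e | e
  · exact absurd (eq_of_mul_one hexp e) hmv
  · exact absurd (mul_eq_left.1 e) hk1
  · exact absurd (mul_eq_right.1 e) hc1
  · rw [e, hexp]

/-- A subset invariant under two commuting elements of order three, of size less than eighteen and different from
nine, has a member fixed by one of the four cyclic subgroups they generate. -/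
theorem exists_fixed [Finite V] {g h : MulAut V} (hg : g ^ 3 = 1) (hh : h ^ 3 = 1) (hgh : Commute g h) {T : Set V}
    (hgT : ∀ x ∈ T, g x ∈ T) (hhT : ∀ x ∈ T, h x ∈ T) (hne : T.Nonempty) (h18 : T.ncard < 18) (h9 : T.ncard ≠ 9) :
    ∃ v ∈ T, g v = v ∨ h v = v ∨ (g * h) v = v ∨ (g * h ^ 2) v = v := by
  classical
  by_contra hcon
  push Not at hcon
  let F : Fin 3 × Fin 3 → MulAut V := fun x => g ^ (x.1 : ℕ) * h ^ (x.2 : ℕ)
  have hmem : ∀ x, ∀ v ∈ T, F x v ∈ T := by
    rintro ⟨i, j⟩ v hv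
    fin_cases i <;> fin_cases j <;> simp only [F, pow_zero, pow_one, pow_two, one_mul, mul_one, MulAut.mul_apply,
      MulAut.one_apply] <;> grind
  have hadd : ∀ x y, F x * F y = F (x + y) := by
    have hp : ∀ (k : MulAut V), k ^ 3 = 1 → ∀ i j : Fin 3, k ^ (i : ℕ) * k ^ (j : ℕ) = k ^ ((i + j : Fin 3) : ℕ) := by
      intro k hk i j
      rw [← pow_add, Fin.val_add]
      exact pow_eq_pow_mod _ hk
    rintro ⟨i, j⟩ ⟨i', j'⟩
    show g ^ (i : ℕ) * h ^ (j : ℕ) * (g ^ (i' : ℕ) * h ^ (j' : ℕ)) = _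
    rw [mul_assoc, ← mul_assoc (h ^ (j : ℕ)), ((hgh.pow_pow (i' : ℕ) (j : ℕ))).eq.symm, mul_assoc,
      ← mul_assoc, hp g hg, hp h hh]
    rfl
  have hfree : ∀ x, x ≠ 0 → ∀ v ∈ T, F x v ≠ v := by
    intro x hx v hv e
    obtain ⟨n1, n2, n3, n4⟩ := hcon v hv
    have e2 : F (x + x) v = v := by rw [← hadd, MulAut.mul_apply, e, e]
    obtain ⟨i, j⟩ := x
    fin_cases i <;> fin_cases j
    · exact hx rfl
    all_goals first
      | exact n1 (by simpa [F] using e)
      | exact n2 (by simpa [F] using e)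
      | exact n3 (by simpa [F] using e)
      | exact n4 (by simpa [F] using e)
      | exact n1 (by simpa [F] using e2)
      | exact n2 (by simpa [F] using e2)
      | exact n3 (by simpa [F] using e2)
      | exact n4 (by simpa [F] using e2)
  have hinj : ∀ v ∈ T, Function.Injective fun x => F x v := by
    intro v hv x y (e : F x v = F y v)
    by_contra hne
    refine hfree (x - y) (sub_ne_zero.2 hne) _ (hmem y v hv) ?_
    rw [← MulAut.mul_apply, hadd, sub_add_cancel]
    exact e
  have hrange : ∀ v ∈ T, (Set.range fun x => F x v).ncard = 9 := fun v hv => by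
    rw [← Nat.card_coe_set_eq, Nat.card_range_of_injective (hinj v hv)]
    simp
  obtain ⟨v, hv⟩ := hne
  have hs : (Set.range fun x => F x v) ⊆ T := by rintro _ ⟨x, rfl⟩; exact hmem x v hv
  obtain ⟨w, hw, hwo⟩ : ∃ w ∈ T, w ∉ Set.range fun x => F x v := by
    by_contra hall
    push Not at hall
    exact h9 (by rw [← hrange v hv, Set.Subset.antisymm hs hall])
  have hs' : (Set.range fun x => F x w) ⊆ T := by rintro _ ⟨x, rfl⟩; exact hmem x w hw
  have hd : Disjoint (Set.range fun x => F x v) (Set.range fun x => F x w) := by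
    rw [Set.disjoint_left]
    rintro _ ⟨x, rfl⟩ ⟨y, (hy : F y w = F x v)⟩
    refine hwo ⟨-y + x, ?_⟩
    show F (-y + x) v = w
    rw [← hadd, MulAut.mul_apply, ← hy, ← MulAut.mul_apply, hadd, neg_add_cancel]
    simp [F]
  have := Set.ncard_le_ncard (Set.union_subset hs hs')
  rw [Set.ncard_union_eq hd, hrange v hv, hrange w hw] at this
  omega

/-- Two commuting elements of order three with non-trivial fixed points, and an involution centralising the first and
inverting the second: a transvection with centre `v`, and the auxiliary facts about the fixed points. -/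
def Frame (g h t : MulAut V) : Prop :=
  g ^ 3 = 1 ∧ h ^ 3 = 1 ∧ g * h = h * g ∧ t * t = 1 ∧ t * g = g * t ∧ t * h * t = h ^ 2 ∧
    Nat.card (fix g) = 4 ∧ Nat.card (fix h) = 4 ∧ fix g ⊓ fix h = ⊥

/-- The transvection data. -/
def Transv (t : MulAut V) (v : V) : Prop :=
  v ≠ 1 ∧ (∀ a, t a * a = 1 ∨ t a * a = v) ∧ (∃ a, t a * a = v) ∧ Nat.card (fix t) = 8

/-- the common fixed points of two such elements are trivial -/
theorem fix_inf_bot [Finite V] {g h : MulAut V} (hV : Nat.card V = 16) (hg : g ^ 3 = 1) (hh : h ^ 3 = 1)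
    (hgh : Commute g h) (hn : g * h ≠ 1 ∧ g * h ^ 2 ≠ 1) (hcg : Nat.card (fix g) = 4) (hch : Nat.card (fix h) = 4) :
    fix g ⊓ fix h = ⊥ := by
  classical
  rw [eq_bot_iff]
  rintro v ⟨hvg, hvh⟩
  rw [Subgroup.mem_bot]
  by_contra hv1
  have hinv : ∀ x ∈ fix g, h x ∈ fix g := fun x (hx : g x = x) => by
    show g (h x) = h x
    rw [← MulAut.mul_apply, hgh.eq, MulAut.mul_apply, hx]
  have hle : fix g ≤ fix h := by
    intro c hc
    by_contra hmv
    obtain ⟨hall, -, -, h2a, h2b, hc1⟩ := orbit_four hexp hcg hh hinv hc hmv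
    rcases hall v hvg with rfl | rfl | rfl | rfl
    · exact hv1 rfl
    · exact hmv hvh
    · exact h2b hvh
    · refine h2a (Eq.trans (Eq.symm hvh) ?_)
      have := DFunLike.congr_fun hh c
      simpa [pow_succ] using this
  have heq : fix g = fix h := SetLike.coe_injective
    (Set.eq_of_subset_of_ncard_le hle (by
      show (fix h : Set V).ncard ≤ (fix g : Set V).ncard
      rw [← Nat.card_coe_set_eq, ← Nat.card_coe_set_eq]
      exact hch.trans hcg.symm |>.le))
  -- the four elements have the same fixed points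
  have hsame : ∀ k : MulAut V, k ^ 3 = 1 → k ≠ 1 → fix g ≤ fix k → fix k ≤ fix g := by
    intro k hk hk1 hle'
    have h1 := card_fix_modEq (V := V) hk
    have h2 : Nat.card (fix k) ∣ 2 ^ 4 := by
      have := Subgroup.card_subgroup_dvd_card (fix k)
      rwa [hV] at this
    obtain ⟨i, hi, hi'⟩ := (Nat.dvd_prime_pow Nat.prime_two).1 h2
    have h4 : Nat.card (fix g) ∣ Nat.card (fix k) := Subgroup.card_dvd_of_le hle'
    have h16 : Nat.card (fix k) ≠ 16 := fun e => fix_ne_top hk1 (eq_top_of_card_eq _ (e.trans hV.symm))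
    have he : Nat.card (fix k) = 4 := by
      rw [hV, hi'] at h1
      rw [hcg, hi'] at h4
      rw [hi'] at h16 ⊢
      interval_cases i <;> simp_all [Nat.ModEq]
    exact (SetLike.coe_injective (Set.eq_of_subset_of_ncard_le hle' (by
      show (fix k : Set V).ncard ≤ (fix g : Set V).ncard
      rw [← Nat.card_coe_set_eq, ← Nat.card_coe_set_eq]
      exact (he.trans hcg.symm).le))).ge
  have hk3 : ∀ i : ℕ, (g * h ^ i) ^ 3 = 1 := fun i => by
    rw [(hgh.pow_right i).mul_pow, hg, ← pow_mul, mul_comm, pow_mul, hh, one_pow, one_mul]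
  have hfix : ∀ i : ℕ, fix g ≤ fix (g * h ^ i) := fun i x hx => by
    show (g * h ^ i) x = x
    have h1 : h ^ i ∈ MulAction.stabilizer (MulAut V) x := pow_mem (show h ∈ _ from hle hx) i
    rw [MulAut.mul_apply, show (h ^ i) x = x from h1]
    exact hx
  have hT : ∀ k : MulAut V, Commute g k → ∀ x ∈ ((fix g : Set V))ᶜ, k x ∈ ((fix g : Set V))ᶜ := by
    intro k hk x hx (hkx : g (k x) = k x)
    refine hx (show g x = x from k.injective ?_)
    rw [← MulAut.mul_apply, ← hk.eq, MulAut.mul_apply]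
    exact hkx
  have hcard : ((fix g : Set V)ᶜ).ncard = 12 := by
    have h1 := Set.ncard_add_ncard_compl (fix g : Set V)
    rw [hV, show (fix g : Set V).ncard = 4 from hcg ▸ (Nat.card_coe_set_eq (fix g : Set V)).symm] at h1
    omega
  obtain ⟨w, hw, hfw⟩ := exists_fixed hexp hg hh hgh (T := (fix g : Set V)ᶜ) (hT g (Commute.refl g)) (hT h hgh)
    (Set.nonempty_of_ncard_ne_zero (by omega)) (by omega) (by omega)
  rcases hfw with e | e | e | e
  · exact hw e
  · exact hw (heq.ge e)
  · exact hw (hsame _ (by simpa using hk3 1) hn.1 (by simpa using hfix 1) e)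
  · exact hw (hsame _ (hk3 2) hn.2 (hfix 2) e)

theorem Frame.transv [Finite V] {g h t : MulAut V} (hV : Nat.card V = 16) (F : Frame g h t) :
    ∃ v, Transv t v ∧ g v = v ∧ ∀ a, g a = a → t a = a → a = 1 ∨ a = v := by
  classical
  obtain ⟨hg, hh, hgh, htt, htg, hth, hcg, hch, hinf⟩ := F
  have hd : ∀ {x : V}, g x = x → h x = x → x = 1 := fun {x} h1 h2 => by
    have : x ∈ fix g ⊓ fix h := ⟨h1, h2⟩
    rwa [hinf, Subgroup.mem_bot] at this
  have g3 : ∀ x, g (g (g x)) = x := fun x => by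
    have := DFunLike.congr_fun hg x
    simpa [pow_succ] using this
  have h3 : ∀ x, h (h (h x)) = x := fun x => by
    have := DFunLike.congr_fun hh x
    simpa [pow_succ] using this
  have t2 : ∀ x, t (t x) = x := fun x => DFunLike.congr_fun htt x
  have tg : ∀ x, t (g x) = g (t x) := fun x => DFunLike.congr_fun htg x
  have th : ∀ x, t (h x) = h (h (t x)) := fun x => by
    have := DFunLike.congr_fun hth (t x)
    simpa [pow_succ, t2] using this
  have gh : ∀ x, g (h x) = h (g x) := fun x => DFunLike.congr_fun hgh x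
  have hgD : ∀ x ∈ fix h, g x ∈ fix h := fun x (hx : h x = x) => show h (g x) = g x by rw [← gh, hx]
  have hhC : ∀ x ∈ fix g, h x ∈ fix g := fun x (hx : g x = x) => show g (h x) = h x by rw [gh, hx]
  have htC : ∀ x ∈ fix g, t x ∈ fix g := fun x (hx : g x = x) => show g (t x) = t x by rw [← tg, hx]
  have htD : ∀ x ∈ fix h, t x ∈ fix h := fun x (hx : h x = x) => by
    show h (t x) = t x
    have := th x
    rw [hx] at this
    conv_lhs => rw [this]
    exact h3 _
  -- the fixed points of the second element are fixed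
  have hD : ∀ d ∈ fix h, t d = d := by
    intro d hd'
    by_contra hne
    have hd1 : d ≠ 1 := fun e => hne (by rw [e, map_one])
    obtain ⟨hall, -, -, -, -, -⟩ := orbit_four hexp hch hg hgD hd' (fun e => hd1 (hd e hd'))
    rcases hall _ (htD d hd') with e | e | e | e
    · exact hd1 (t.injective (e.trans (map_one t).symm))
    · exact hne e
    · have := congrArg t e
      rw [t2, tg, e] at this
      exact hd1 (hd (by conv_rhs => rw [← g3 d, ← this]) hd')
    · have := congrArg t e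
      rw [t2, tg, tg, e, g3] at this
      exact hd1 (hd this.symm hd')
  -- on the fixed points of the first
  obtain ⟨c, hc, hc1⟩ : ∃ c ∈ fix g, c ≠ 1 := by
    by_contra hall
    push Not at hall
    rw [(eq_bot_iff.2 fun x hx => Subgroup.mem_bot.2 (hall x hx) : fix g = ⊥), Subgroup.card_bot] at hcg
    omega
  obtain ⟨v, hv, hv1, htv⟩ : ∃ v ∈ fix g, v ≠ 1 ∧ t v = v := by
    obtain ⟨hall, -, -, -, -, -⟩ := orbit_four hexp hcg hh hhC hc (fun e => hc1 (hd hc e))
    rcases hall _ (htC c hc) with e | e | e | e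
    · exact absurd (t.injective (e.trans (map_one t).symm)) hc1
    · exact ⟨c, hc, hc1, e⟩
    · refine ⟨h (h c), hhC _ (hhC _ hc), fun e' => hc1 (by rw [← h3 c, e', map_one]), ?_⟩
      rw [th, th, e, h3 c]
    · refine ⟨h c, hhC _ hc, fun e' => hc1 (h.injective (e'.trans (map_one h).symm)), ?_⟩
      rw [th, e]
      exact congrArg h (h3 c)
  obtain ⟨hall, hprod, -, hv2a, hv2b, -⟩ := orbit_four hexp hcg hh hhC hv (fun e => hv1 (hd hv e))
  have htv' : t (h v) = h (h v) := by rw [th, htv]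
  have htv'' : t (h (h v)) = h v := by rw [th, htv', h3]
  have hprod' : h (h v) * h v = v := by
    have := eq_of_mul_one hexp (a := v) (b := h (h v) * h v) (by rw [← mul_assoc, mul_right_comm]; exact hprod)
    exact this
  have hCt : ∀ x ∈ fix g, t x * x = 1 ∨ t x * x = v := by
    intro x hx
    rcases hall x hx with rfl | rfl | rfl | rfl
    · exact Or.inl (by rw [map_one, mul_one])
    · exact Or.inl (by rw [htv, hexp])
    · exact Or.inr (by rw [htv', hprod'])
    · exact Or.inr (by rw [htv'', mul_comm, hprod'])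
  have hCfix : ∀ x ∈ fix g, t x = x → x = 1 ∨ x = v := by
    intro x hx hxt
    rcases hall x hx with rfl | rfl | rfl | rfl
    · exact Or.inl rfl
    · exact Or.inr rfl
    · exact absurd (htv'.symm.trans hxt) hv2b
    · exact absurd (htv''.symm.trans hxt).symm hv2b
  -- the decomposition
  let m : fix g × fix h → V := fun x => x.1.1 * x.2.1
  have hm : Function.Injective m := by
    rintro ⟨⟨a, ha⟩, ⟨b, hb⟩⟩ ⟨⟨a', ha'⟩, ⟨b', hb'⟩⟩ (e : a * b = a' * b')
    have e1 : a'⁻¹ * a = b' * b⁻¹ := by rw [eq_mul_inv_iff_mul_eq, mul_assoc, e, inv_mul_cancel_left]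
    have e2 := hd ((fix g).mul_mem ((fix g).inv_mem ha') ha)
      (e1 ▸ (fix h).mul_mem hb' ((fix h).inv_mem hb))
    obtain rfl : a = a' := (inv_mul_eq_one.1 e2).symm
    exact Prod.ext rfl (Subtype.ext (mul_left_cancel e))
  have hbij : Function.Bijective m :=
    (Nat.bijective_iff_injective_and_card m).2 ⟨hm, by rw [Nat.card_prod, hcg, hch, hV]⟩
  have htval : ∀ a : V, t a * a = 1 ∨ t a * a = v := by
    intro a
    obtain ⟨⟨⟨x, hx⟩, ⟨y, hy⟩⟩, rfl⟩ := hbij.2 a
    show t (x * y) * (x * y) = 1 ∨ t (x * y) * (x * y) = v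
    rw [map_mul, hD y hy, mul_mul_mul_comm, hexp, mul_one]
    exact hCt x hx
  refine ⟨v, ⟨hv1, htval, ⟨h v, by rw [htv', hprod']⟩, ?_⟩, hv, hCfix⟩
  let m' : ({x : V // x = 1 ∨ x = v}) × fix h → fix t := fun x => ⟨x.1.1 * x.2.1, by
    show t (x.1.1 * x.2.1) = x.1.1 * x.2.1
    rw [map_mul, hD _ x.2.2]
    rcases x.1.2 with e | e <;> rw [e]
    · rw [map_one]
    · rw [htv]⟩
  have hm' : Function.Bijective m' := by
    constructor
    · rintro ⟨⟨a, ha⟩, b⟩ ⟨⟨a', ha'⟩, b'⟩ e
      have hmem : ∀ z, z = 1 ∨ z = v → z ∈ fix g := by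
        rintro z (rfl | rfl)
        exacts [one_mem _, hv]
      have := hm (a₁ := (⟨a, hmem a ha⟩, b)) (a₂ := (⟨a', hmem a' ha'⟩, b')) (congrArg Subtype.val e)
      obtain ⟨e1, rfl⟩ := Prod.ext_iff.1 this
      have : a = a' := congrArg Subtype.val e1
      subst this
      rfl
    · rintro ⟨a, ha⟩
      obtain ⟨⟨⟨x, hx⟩, ⟨y, hy⟩⟩, rfl⟩ := hbij.2 a
      have hxt : t x = x := by
        have h1 : t (x * y) = x * y := ha
        rw [map_mul, hD y hy] at h1
        exact mul_right_cancel h1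
      exact ⟨(⟨x, hCfix x hx hxt⟩, ⟨y, hy⟩), rfl⟩
  have h2 : Nat.card {x : V // x = 1 ∨ x = v} = 2 := by
    rw [← Set.ncard_pair (Ne.symm hv1), ← Nat.card_coe_set_eq]
    rfl
  rw [← Nat.card_eq_of_bijective m' hm', Nat.card_prod, hch, h2]

omit hexp in
theorem Transv.fix_self {t : MulAut V} {v : V} (hexp : ∀ a : V, a * a = 1) (T : Transv t v) (htt : t * t = 1) :
    t v = v := by
  obtain ⟨a, ha⟩ := T.2.2.1
  rw [← ha, map_mul, show t (t a) = a from DFunLike.congr_fun htt a, mul_comm]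

/-- an automorphism centralising a transvection fixes its centre and its axis -/
theorem Transv.fix_of_commute {t k : MulAut V} {v : V} (T : Transv t v) (hk : Commute t k) :
    k v = v ∧ ∀ a ∈ fix t, k a ∈ fix t := by
  constructor
  · obtain ⟨a, ha⟩ := T.2.2.1
    have e : k v = t (k a) * k a := by
      rw [← ha, map_mul, ← MulAut.mul_apply, ← hk.eq, MulAut.mul_apply]
    rcases T.2.1 (k a) with h | h
    · exact absurd (k.injective ((e.trans h).trans (map_one k).symm)) T.1
    · exact e.trans h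
  · intro a (ha : t a = a)
    show t (k a) = k a
    rw [← MulAut.mul_apply, hk.eq, MulAut.mul_apply, ha]

/-- two transvections whose centralisers generate a group containing both elements of order three -/
theorem Transv.pair [Finite V] {g h t₁ t₂ : MulAut V} {v₁ v₂ : V} (hV : Nat.card V = 16) (hg : g ^ 3 = 1)
    (hh : h ^ 3 = 1) (hcg : Nat.card (fix g) = 4) (hch : Nat.card (fix h) = 4) (hgh : Commute g h) (hinf : fix g ⊓ fix h = ⊥)
    (T₁ : Transv t₁ v₁) (T₂ : Transv t₂ v₂) (ht₁ : t₁ * t₁ = 1) (ht₂ : t₂ * t₂ = 1) (hc : Commute t₁ t₂)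
    (hgen : ∀ S : Subgroup (MulAut V), (∀ k, Commute t₁ k → k ∈ S) → (∀ k, Commute t₂ k → k ∈ S) → g ∈ S ∧ h ∈ S) :
    v₁ ≠ v₂ ∧ ∀ x, t₁ x = x → t₂ x = x → x ∈ ({1, v₁, v₂, v₁ * v₂} : Set V) := by
  classical
  have hne : v₁ ≠ v₂ := by
    rintro rfl
    obtain ⟨h1, h2⟩ := hgen (MulAction.stabilizer (MulAut V) v₁)
      (fun k hk => (T₁.fix_of_commute hexp hk).1) (fun k hk => (T₂.fix_of_commute hexp hk).1)
    have : v₁ ∈ fix g ⊓ fix h := ⟨h1, h2⟩
    rw [hinf, Subgroup.mem_bot] at this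
    exact T₁.1 this
  refine ⟨hne, ?_⟩
  set H₁ := fix t₁
  set H₂ := fix t₂
  have hHne : H₁ ≠ H₂ := by
    intro e
    let S : Subgroup (MulAut V) :=
      { carrier := {k | ∀ a, a ∈ H₁ ↔ k a ∈ H₁}
        one_mem' := fun a => Iff.rfl
        mul_mem' := fun {k k'} (hk : ∀ a, a ∈ H₁ ↔ k a ∈ H₁) (hk' : ∀ a, a ∈ H₁ ↔ k' a ∈ H₁) a =>
          (hk' a).trans (hk (k' a))
        inv_mem' := fun {k} (hk : ∀ a, a ∈ H₁ ↔ k a ∈ H₁) a => by
          rw [hk (k⁻¹ a), ← MulAut.mul_apply, mul_inv_cancel, MulAut.one_apply] }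
    have hmem : ∀ (t : MulAut V) (v : V), Transv t v → fix t = H₁ → ∀ k, Commute t k → k ∈ S := by
      intro t v T ht k hk a
      constructor
      · intro ha
        rw [← ht] at ha ⊢
        exact (T.fix_of_commute hexp hk).2 a ha
      · intro ha
        rw [← ht] at ha ⊢
        have := (T.fix_of_commute hexp hk.inv_right).2 _ ha
        rwa [← MulAut.mul_apply, inv_mul_cancel, MulAut.one_apply] at this
    obtain ⟨hgS, hhS⟩ := hgen S (hmem t₁ v₁ T₁ rfl) (hmem t₂ v₂ T₂ e.symm)
    have hidx : H₁.index = 2 := by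
      have := H₁.card_mul_index
      rw [show Nat.card H₁ = 8 from T₁.2.2.2, hV] at this
      omega
    -- each of the two four-groups lies in the hyperplane
    have key : ∀ k m : MulAut V, k ∈ S → Nat.card (fix m) = 4 → k ^ 3 = 1 → (∀ x ∈ fix m, k x ∈ fix m) →
        (∀ x, k x = x → m x = x → x = 1) → fix m ≤ H₁ := by
      intro k m hkS hcm hk hkm hd d hd'
      by_cases hd1 : d = 1
      · exact hd1 ▸ one_mem _
      obtain ⟨hall, hpr, h333, -, -, -⟩ := orbit_four hexp hcm hk hkm hd' (fun e' => hd1 (hd d e' hd'))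
      have hsum : ∀ x, x * k x ∈ H₁ := fun x => by
        rw [Subgroup.mul_mem_iff_of_index_two hidx]
        exact hkS x
      have := hsum (k d)
      have e' : d = k d * k (k d) := eq_of_mul_one hexp (by rw [mul_comm, ← mul_assoc]; exact hpr)
      rw [e']
      exact this
    have hgh' : ∀ x, g x = x → h x = x → x = 1 := fun x h1 h2 => by
      have : x ∈ fix g ⊓ fix h := ⟨h1, h2⟩
      rwa [hinf, Subgroup.mem_bot] at this
    have hC := key h g hhS hcg hh (fun x (hx : g x = x) => (show g (h x) = h x by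
      rw [← MulAut.mul_apply, hgh.eq, MulAut.mul_apply, hx])) fun x a b => hgh' x b a
    have hD := key g h hgS hch hg (fun x (hx : h x = x) => (show h (g x) = g x by
      rw [← MulAut.mul_apply, ← hgh.eq, MulAut.mul_apply, hx])) hgh'
    let m : fix g × fix h → H₁ := fun x => ⟨x.1.1 * x.2.1, mul_mem (hC x.1.2) (hD x.2.2)⟩
    have hm : Function.Injective m := by
      rintro ⟨⟨a, ha⟩, ⟨b, hb⟩⟩ ⟨⟨a', ha'⟩, ⟨b', hb'⟩⟩ e
      have e : a * b = a' * b' := congrArg Subtype.val e
      have e1 : a'⁻¹ * a = b' * b⁻¹ := by rw [eq_mul_inv_iff_mul_eq, mul_assoc, e, inv_mul_cancel_left]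
      have e2 := hgh' _ ((fix g).mul_mem ((fix g).inv_mem ha') ha)
        (e1 ▸ (fix h).mul_mem hb' ((fix h).inv_mem hb))
      obtain rfl : a = a' := (inv_mul_eq_one.1 e2).symm
      exact Prod.ext rfl (Subtype.ext (mul_left_cancel e))
    have := Nat.card_le_card_of_injective m hm
    rw [Nat.card_prod, hcg, hch, show Nat.card H₁ = 8 from T₁.2.2.2] at this
    omega
  have h4 : Nat.card (H₁ ⊓ H₂ : Subgroup V) ≤ 4 := by
    have hd : Nat.card (H₁ ⊓ H₂ : Subgroup V) ∣ 2 ^ 3 := by
      have := Subgroup.card_dvd_of_le (inf_le_left : H₁ ⊓ H₂ ≤ H₁)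
      rwa [show Nat.card H₁ = 8 from T₁.2.2.2] at this
    obtain ⟨i, hi, hi'⟩ := (Nat.dvd_prime_pow Nat.prime_two).1 hd
    by_contra hlt
    have h8 : Nat.card (H₁ ⊓ H₂ : Subgroup V) = 8 := by
      rw [hi'] at hlt ⊢
      interval_cases i <;> omega
    have e1 : H₁ ⊓ H₂ = H₁ := SetLike.coe_injective (Set.eq_of_subset_of_ncard_le inf_le_left (by
      rw [← Nat.card_coe_set_eq, ← Nat.card_coe_set_eq]; exact (T₁.2.2.2.trans h8.symm).le))
    have e2 : H₁ ⊓ H₂ = H₂ := SetLike.coe_injective (Set.eq_of_subset_of_ncard_le inf_le_right (by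
      rw [← Nat.card_coe_set_eq, ← Nat.card_coe_set_eq]; exact (T₂.2.2.2.trans h8.symm).le))
    exact hHne (e1.symm.trans e2)
  have m1 : v₁ ∈ H₁ ⊓ H₂ := ⟨T₁.fix_self hexp ht₁, (T₁.fix_of_commute hexp hc).1⟩
  have m2 : v₂ ∈ H₁ ⊓ H₂ := ⟨(T₂.fix_of_commute hexp hc.symm).1, T₂.fix_self hexp ht₂⟩
  intro x h1 h2
  by_contra hx
  simp only [Set.mem_insert_iff, Set.mem_singleton_iff, not_or] at hx
  obtain ⟨n1, n2, n3, n4⟩ := hx
  have hsub : ({x, 1, v₁, v₂, v₁ * v₂} : Finset V) ⊆ ((H₁ ⊓ H₂ : Subgroup V) : Set V).toFinite.toFinset := by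
    intro y hy
    simp only [Finset.mem_insert, Finset.mem_singleton] at hy
    rw [Set.Finite.mem_toFinset]
    rcases hy with rfl | rfl | rfl | rfl | rfl
    exacts [⟨h1, h2⟩, one_mem _, m1, m2, mul_mem m1 m2]
  have h5 := Finset.card_le_card hsub
  rw [← Set.ncard_eq_toFinset_card _ (((H₁ ⊓ H₂ : Subgroup V) : Set V).toFinite), ← Nat.card_coe_set_eq] at h5
  have n5 : v₁ * v₂ ≠ 1 := fun e => hne (eq_of_mul_one hexp e).symm
  rw [Finset.card_insert_of_notMem (by simp [n1, n2, n3, n4]),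
    Finset.card_insert_of_notMem (by simp [Ne.symm T₁.1, Ne.symm T₂.1, Ne.symm n5]),
    Finset.card_insert_of_notMem (by simp [hne, T₂.1]),
    Finset.card_insert_of_notMem (by simp [T₁.1]), Finset.card_singleton] at h5
  exact absurd (h5.trans h4) (by omega)

end Cfsg.Lib.SymSixSection
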